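/-
Čech acyclic sheaves are acyclic for quasi-compact quasi-separated direct images.
-/
import Groth.Agent.EtShLib.CechColim
import Groth.Agent.EtShLib.Generate
import Groth.Agent.EtCechInjLib.Delta
import Groth.Agent.CohLib.ExtShift
import Groth.Agent.EtShLib.Stalk

set_option autoImplicit false
set_option linter.all false
set_option backward.isDefEq.respectTransparency false
set_option backward.isDefEq.respectTransparency.types false
set_option synthInstance.maxHeartbeats 400000
set_option maxHeartbeats 1000000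

universe u

open CategoryTheory CategoryTheory.Limits AlgebraicGeometry Opposite
open Groth.Agent Groth.Agent.EtShLib

noncomputable section

namespace EtBcLimLib

variable {T S : Scheme.{u}} (g : T ⟶ S) [QuasiCompact g] [QuasiSeparated g]

theorem bc_mem_qcqsObj (W : S.Etale) [IsAffine W.left] : (EtCoh.bc g).obj W ∈ qcqsObj T := by
  haveI : CompactSpace ↥((𝟭 Scheme).obj W.left) := inferInstanceAs (CompactSpace ↥W.left)
  haveI : QuasiSeparatedSpace ↥((𝟭 Scheme).obj W.left) := inferInstanceAs (QuasiSeparatedSpace ↥W.left)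
  exact ⟨QuasiCompact.compactSpace_of_compactSpace (pullback.fst W.hom g),
    quasiSeparatedSpace_of_quasiSeparated (pullback.fst W.hom g)⟩

theorem epi_push_of_cechAcyclicQ {U : ShortComplex (EtCoh.Ab T)} (hU : U.ShortExact) (h : CechAcyclicQ U.X₁) :
    Epi ((EtCoh.push g).map U.g) := by
  refine (epi_iff_stalks (A := AddCommGrpCat.{u + 1}) _).2 fun Ω _ _ ξ => ?_
  refine (AddCommGrpCat.epi_iff_surjective _).2 fun z => ?_
  obtain ⟨V, v, t, rfl⟩ := exists_germ (A := AddCommGrpCat.{u + 1}) ξ z
  obtain ⟨W, a, w, hW, rfl⟩ := exists_affine_below' ξ V v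
  haveI := hW
  obtain ⟨t', ht'⟩ := surjective_sections hU h (bc_mem_qcqsObj g W)
    (((EtCoh.push g).obj U.X₃).obj.map a.op t)
  refine ⟨germ ξ ((EtCoh.push g).obj U.X₂) W w t', ?_⟩
  rw [germ_natural_apply, ← germ_res_apply]
  exact congrArg (germ ξ ((EtCoh.push g).obj U.X₃) W w) ht'

theorem isZero_Rpush_cechAcyclicQ : ∀ (q : ℕ) (J : EtCoh.Ab T), CechAcyclicQ J →
    IsZero ((EtCoh.Rpush g (q + 1)).obj J)
  | q, J, hJ => by
    haveI : Injective (CohLib.injSC J).X₂ := inferInstanceAs (Injective (Injective.under J))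
    have hU := CohLib.injSC_shortExact J
    let D := EtCechInjLib.derDelta (EtCoh.push g)
    have h2 : IsZero ((EtCoh.Rpush g (q + 1)).obj (CohLib.injSC J).X₂) :=
      Functor.isZero_rightDerived_obj_injective_succ _ q _
    haveI : Epi (D.δ hU q) := (D.exact₁ hU q).epi_f (h2.eq_of_tgt _ _)
    refine IsZero.of_epi_eq_zero (D.δ hU q) ?_
    match q with
    | 0 =>
      haveI := epi_push_of_cechAcyclicQ g hU hJ
      haveI : Epi ((D.F 0).map (CohLib.injSC J).g) := by
        have e := (EtCoh.push g).toRightDerivedZero.naturality (CohLib.injSC J).g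
        haveI : Epi ((EtCoh.push g).map (CohLib.injSC J).g ≫
            (EtCoh.push g).toRightDerivedZero.app (CohLib.injSC J).X₃) := inferInstance
        rw [e] at this
        exact @epi_of_epi _ _ _ _ _ ((EtCoh.push g).toRightDerivedZero.app (CohLib.injSC J).X₂) _ this
      rw [← cancel_epi ((D.F 0).map (CohLib.injSC J).g), D.map_comp_δ, comp_zero]
    | n + 1 =>
      exact (isZero_Rpush_cechAcyclicQ n _ (cechAcyclicQ_quotient hU hJ)).eq_of_src _ _

end EtBcLimLib
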