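/-
The base change morphisms of right derived functors compose along a tower of squares.
-/
import Groth.Agent.EtBcQLib.Bc

set_option autoImplicit false
set_option linter.all false
set_option backward.isDefEq.respectTransparency false

universe v₁ v₂ v₃ v₄ v₅ v₆ u₁ u₂ u₃ u₄ u₅ u₆

open CategoryTheory CategoryTheory.Limits HomologicalComplex

noncomputable section

namespace EtBcLimLib

open EtBcQLib

section Comparison

variable {C : Type u₁} [Category.{v₁} C] [Abelian C] {B' : Type u₂} [Category.{v₂} B'] [Abelian B']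
  {B : Type u₃} [Category.{v₃} B] [Abelian B]
  (Ψ₂ : C ⥤ B') [Ψ₂.Additive] [PreservesFiniteLimits Ψ₂] (Ψ : B' ⥤ B) [Ψ.Additive] [PreservesFiniteLimits Ψ]
  (Ψ₃ : C ⥤ B) [Ψ₃.Additive] [PreservesFiniteLimits Ψ₃] (cΨ : Ψ₃ ⟶ Ψ₂ ⋙ Ψ)

/-- The comparisons of cycles of a composite. -/
theorem cyclesComparison_comp (K : CochainComplex C ℕ) (i : ℕ) :
    cyclesMap (L := (Ψ.mapHomologicalComplex _).obj ((Ψ₂.mapHomologicalComplex _).obj K))
        ((NatTrans.mapHomologicalComplex cΨ (ComplexShape.up ℕ)).app K) i ≫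
        RDer.cyclesComparison Ψ ((Ψ₂.mapHomologicalComplex _).obj K) i ≫
          Ψ.map (RDer.cyclesComparison Ψ₂ K i) =
      RDer.cyclesComparison Ψ₃ K i ≫ cΨ.app (K.cycles i) := by
  haveI : Mono (Ψ₂.map (K.iCycles i)) := CategoryTheory.preserves_mono_of_preservesLimit _ _
  haveI : Mono (Ψ.map (Ψ₂.map (K.iCycles i))) := CategoryTheory.preserves_mono_of_preservesLimit _ _
  rw [← cancel_mono (Ψ.map (Ψ₂.map (K.iCycles i)))]
  have n := cΨ.naturality (K.iCycles i)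
  simp only [Functor.comp_map] at n
  simp only [Category.assoc]
  rw [← Ψ.map_comp, RDer.cyclesComparison_i, RDer.cyclesComparison_i, ← n, RDer.cyclesComparison_i_assoc,
    cyclesMap_i]
  rfl

/-- The comparisons of homology of a composite. -/
theorem homologyComparison_comp (K : CochainComplex C ℕ) (i : ℕ) :
    homologyMap (L := (Ψ.mapHomologicalComplex _).obj ((Ψ₂.mapHomologicalComplex _).obj K))
        ((NatTrans.mapHomologicalComplex cΨ (ComplexShape.up ℕ)).app K) i ≫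
        RDer.homologyComparison Ψ ((Ψ₂.mapHomologicalComplex _).obj K) i ≫
          Ψ.map (RDer.homologyComparison Ψ₂ K i) =
      RDer.homologyComparison Ψ₃ K i ≫ cΨ.app (K.homology i) := by
  rw [← cancel_epi (((Ψ₃.mapHomologicalComplex _).obj K).homologyπ i)]
  rw [homologyπ_naturality_assoc, RDer.homologyπ_homologyComparison_assoc, RDer.homologyπ_homologyComparison_assoc,
    ← Ψ.map_comp, RDer.homologyπ_homologyComparison, Ψ.map_comp]
  have e := cyclesComparison_comp Ψ₂ Ψ Ψ₃ cΨ K i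
  have n := cΨ.naturality (K.homologyπ i)
  simp only [Functor.comp_map] at n
  erw [reassoc_of% e]
  rw [n]

end Comparison

section Tower

variable {A : Type u₁} [Category.{v₁} A] [Abelian A] [HasInjectiveResolutions A]
  {A' : Type u₂} [Category.{v₂} A'] [Abelian A'] [HasInjectiveResolutions A']
  {A'' : Type u₃} [Category.{v₃} A''] [Abelian A''] [HasInjectiveResolutions A'']
  {B : Type u₄} [Category.{v₄} B] [Abelian B] {B' : Type u₅} [Category.{v₅} B'] [Abelian B']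
  {B'' : Type u₆} [Category.{v₆} B''] [Abelian B'']
  (Φ : A ⥤ B) [Φ.Additive] (Γ : A' ⥤ A) [Γ.Additive] [Γ.PreservesInjectiveObjects]
  (Φ' : A' ⥤ B') [Φ'.Additive] (Ψ : B' ⥤ B) [Ψ.Additive] [PreservesFiniteLimits Ψ]
  (α : Γ ⋙ Φ ⟶ Φ' ⋙ Ψ)
  (Γ₂ : A'' ⥤ A') [Γ₂.Additive] [Γ₂.PreservesInjectiveObjects]
  (Φ'' : A'' ⥤ B'') [Φ''.Additive] (Ψ₂ : B'' ⥤ B') [Ψ₂.Additive] [PreservesFiniteLimits Ψ₂]
  (α₂ : Γ₂ ⋙ Φ' ⟶ Φ'' ⋙ Ψ₂)
  (Γ₃ : A'' ⥤ A) [Γ₃.Additive] [Γ₃.PreservesInjectiveObjects]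
  (Ψ₃ : B'' ⥤ B) [Ψ₃.Additive] [PreservesFiniteLimits Ψ₃]
  (α₃ : Γ₃ ⋙ Φ ⟶ Φ'' ⋙ Ψ₃)
  (cΓ : Γ₃ ⟶ Γ₂ ⋙ Γ) (cΨ : Ψ₃ ⟶ Ψ₂ ⋙ Ψ)
  (h : ∀ Z : A'', Φ.map (cΓ.app Z) ≫ α.app (Γ₂.obj Z) ≫ Ψ.map (α₂.app Z) =
    α₃.app Z ≫ cΨ.app (Φ''.obj Z))

include h in
/-- The base change morphisms compose. -/
theorem bcu_bcu (q : ℕ) {X : A} {Y : A'} {Z : A''} (u : X ⟶ Γ.obj Y) (u₂ : Y ⟶ Γ₂.obj Z) (u₃ : X ⟶ Γ₃.obj Z)
    (hu : u ≫ Γ.map u₂ = u₃ ≫ cΓ.app Z) :
    bcu Φ Γ Φ' Ψ α q u ≫ Ψ.map (bcu Φ' Γ₂ Φ'' Ψ₂ α₂ q u₂) =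
      bcu Φ Γ₃ Φ'' Ψ₃ α₃ q u₃ ≫ cΨ.app ((Φ''.rightDerived q).obj Z) := by
  obtain ⟨θ, hθ, e⟩ := exists_bcu_eq Φ Γ Φ' Ψ α q u
  obtain ⟨θ₂, hθ₂, e₂⟩ := exists_bcu_eq Φ' Γ₂ Φ'' Ψ₂ α₂ q u₂
  obtain ⟨θ₃, hθ₃, e₃⟩ := exists_bcu_eq Φ Γ₃ Φ'' Ψ₃ α₃ q u₃
  let I := injectiveResolution X
  let J := injectiveResolution Y
  let K := injectiveResolution Z
  let cK : (Γ₃.mapHomologicalComplex _).obj K.cocomplex ⟶
      (Γ.mapHomologicalComplex _).obj ((Γ₂.mapHomologicalComplex _).obj K.cocomplex) :=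
    (NatTrans.mapHomologicalComplex cΓ (ComplexShape.up ℕ)).app K.cocomplex
  obtain ⟨H⟩ := nonempty_homotopy I ((Γ.mapHomologicalComplex _).obj ((Γ₂.mapHomologicalComplex _).obj K.cocomplex))
    (θ ≫ (Γ.mapHomologicalComplex _).map θ₂) (θ₃ ≫ cK) (by
      rw [HomologicalComplex.comp_f, HomologicalComplex.comp_f]
      refine ((Category.assoc _ _ _).symm.trans (congrArg (· ≫ Γ.map (θ₂.f 0)) hθ)).trans ?_
      refine Eq.trans ?_ ((congrArg (· ≫ cK.f 0) hθ₃).symm.trans (Category.assoc _ _ _))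
      refine ((Category.assoc _ _ _).trans (congrArg (u ≫ ·) ((Γ.map_comp _ _).symm.trans
        ((congrArg Γ.map hθ₂).trans (Γ.map_comp _ _))))).trans ?_
      refine ((Category.assoc _ _ _).symm.trans (congrArg (· ≫ Γ.map (Γ₂.map (K.ι.f 0))) hu)).trans ?_
      refine (Category.assoc _ _ _).trans (Eq.trans ?_ (Category.assoc _ _ _).symm)
      exact congrArg (u₃ ≫ ·) (cΓ.naturality (K.ι.f 0)).symm)
  -- the two maps of complexes agree in homology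
  have eH := (Φ.mapHomotopy H).homologyMap_eq q
  have key : homologyMap (cxMap Φ Γ Φ' Ψ α θ) q ≫
      homologyMap ((Ψ.mapHomologicalComplex _).map (cxMap Φ' Γ₂ Φ'' Ψ₂ α₂ θ₂)) q =
      homologyMap (cxMap Φ Γ₃ Φ'' Ψ₃ α₃ θ₃) q ≫
        homologyMap (L := (Ψ.mapHomologicalComplex _).obj ((Ψ₂.mapHomologicalComplex _).obj
          ((Φ''.mapHomologicalComplex _).obj K.cocomplex)))
          ((NatTrans.mapHomologicalComplex cΨ (ComplexShape.up ℕ)).app
            ((Φ''.mapHomologicalComplex _).obj K.cocomplex)) q := by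
    let M : (Φ.mapHomologicalComplex _).obj ((Γ.mapHomologicalComplex _).obj
          ((Γ₂.mapHomologicalComplex _).obj K.cocomplex)) ⟶
        (Ψ.mapHomologicalComplex _).obj ((Ψ₂.mapHomologicalComplex _).obj
          ((Φ''.mapHomologicalComplex (ComplexShape.up ℕ)).obj K.cocomplex)) :=
      (NatTrans.mapHomologicalComplex α (ComplexShape.up ℕ)).app ((Γ₂.mapHomologicalComplex _).obj K.cocomplex) ≫
        (Ψ.mapHomologicalComplex _).map ((NatTrans.mapHomologicalComplex α₂ (ComplexShape.up ℕ)).app K.cocomplex)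
    have a : cxMap Φ Γ Φ' Ψ α θ ≫ (Ψ.mapHomologicalComplex _).map (cxMap Φ' Γ₂ Φ'' Ψ₂ α₂ θ₂) =
        (Φ.mapHomologicalComplex _).map (θ ≫ (Γ.mapHomologicalComplex _).map θ₂) ≫ M := by
      refine HomologicalComplex.hom_ext _ _ fun n => ?_
      show (Φ.map (θ.f n) ≫ α.app (J.cocomplex.X n)) ≫ Ψ.map (Φ'.map (θ₂.f n) ≫ α₂.app (K.cocomplex.X n)) =
        Φ.map (θ.f n ≫ Γ.map (θ₂.f n)) ≫ α.app (Γ₂.obj (K.cocomplex.X n)) ≫ Ψ.map (α₂.app (K.cocomplex.X n))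
      rw [Φ.map_comp, Ψ.map_comp, Category.assoc, Category.assoc]
      refine congrArg (Φ.map (θ.f n) ≫ ·) ?_
      exact ((α.naturality_assoc (θ₂.f n) _).symm)
    have b : (Φ.mapHomologicalComplex _).map (θ₃ ≫ cK) ≫ M = cxMap Φ Γ₃ Φ'' Ψ₃ α₃ θ₃ ≫
        (NatTrans.mapHomologicalComplex cΨ (ComplexShape.up ℕ)).app
          ((Φ''.mapHomologicalComplex _).obj K.cocomplex) := by
      refine HomologicalComplex.hom_ext _ _ fun n => ?_
      show Φ.map (θ₃.f n ≫ cΓ.app (K.cocomplex.X n)) ≫ α.app (Γ₂.obj (K.cocomplex.X n)) ≫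
          Ψ.map (α₂.app (K.cocomplex.X n)) =
        (Φ.map (θ₃.f n) ≫ α₃.app (K.cocomplex.X n)) ≫ cΨ.app (Φ''.obj (K.cocomplex.X n))
      rw [Φ.map_comp, Category.assoc, Category.assoc, h]
    refine ((homologyMap_comp _ _ _).symm.trans ((congrArg (homologyMap · q) a).trans ?_)).trans
      (homologyMap_comp _ _ _)
    refine Eq.trans ?_ (congrArg (homologyMap · q) b)
    rw [homologyMap_comp, homologyMap_comp, eH]
    simp only [M, homologyMap_comp]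
  rw [e, e₂, e₃]
  simp only [bcH, Category.assoc, Functor.map_comp]
  refine congrArg ((I.isoRightDerivedObj Φ q).hom ≫ ·) ?_
  rw [← Ψ.map_comp_assoc (J.isoRightDerivedObj Φ' q).inv, Iso.inv_hom_id, Ψ.map_id, Category.id_comp]
  erw [reassoc_of% (homologyComparison_naturality Ψ (cxMap Φ' Γ₂ Φ'' Ψ₂ α₂ θ₂) q)]
  erw [reassoc_of% key]
  refine congrArg (homologyMap (cxMap Φ Γ₃ Φ'' Ψ₃ α₃ θ₃) q ≫ ·) ?_
  erw [reassoc_of% (homologyComparison_comp Ψ₂ Ψ Ψ₃ cΨ ((Φ''.mapHomologicalComplex _).obj K.cocomplex) q)]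
  exact congrArg (RDer.homologyComparison Ψ₃ _ q ≫ ·) (cΨ.naturality ((K.isoRightDerivedObj Φ'' q).inv)).symm

end Tower

section Zero

variable {A : Type u₁} [Category.{v₁} A] [Abelian A] [HasInjectiveResolutions A]
  {A' : Type u₂} [Category.{v₂} A'] [Abelian A'] [HasInjectiveResolutions A']
  {B' : Type u₃} [Category.{v₃} B'] [Abelian B'] {B : Type u₄} [Category.{v₄} B] [Abelian B]
  (Φ : A ⥤ B) [Φ.Additive] (Γ : A' ⥤ A) [Γ.Additive] [Γ.PreservesInjectiveObjects]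
  (Φ' : A' ⥤ B') [Φ'.Additive] (Ψ : B' ⥤ B) [Ψ.Additive] [PreservesFiniteLimits Ψ]
  (α : Γ ⋙ Φ ⟶ Φ' ⋙ Ψ)

omit [HasInjectiveResolutions A] in
theorem natTrans_zero {D : Type*} [Category D] [Abelian D] {F F' : A' ⥤ D} [F.Additive] [F'.Additive] (β : F ⟶ F')
    (Y : A') : F.toRightDerivedZero.app Y ≫ (NatTrans.rightDerived β 0).app Y = β.app Y ≫ F'.toRightDerivedZero.app Y := by
  rw [(injectiveResolution Y).toRightDerivedZero_eq F, (injectiveResolution Y).toRightDerivedZero_eq F',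
    InjectiveResolution.rightDerived_app_eq β (injectiveResolution Y) 0]
  simp only [Category.assoc, Iso.inv_hom_id_assoc]
  simp only [← Category.assoc]
  rw [cancel_mono]
  simp only [Category.assoc, homologyFunctor_map, RDer.isoHomologyπ₀_hom_eq, homologyπ_naturality]
  rw [RDer.toRightDerivedZero'_cyclesMap_assoc]

/-- The base change morphism in degree zero. -/
theorem toRightDerivedZero_bcu {X : A} {Y : A'} (u : X ⟶ Γ.obj Y) :
    Φ.toRightDerivedZero.app X ≫ bcu Φ Γ Φ' Ψ α 0 u =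
      (Φ.map u ≫ α.app Y) ≫ Ψ.map (Φ'.toRightDerivedZero.app Y) := by
  dsimp only [bcu, Functor.comp_obj]
  rw [← Φ.toRightDerivedZero.naturality_assoc, RDer.toRightDerivedZero_edgeIn_assoc]
  have e : ((Γ ⋙ Φ).toRightDerivedZero.app Y) ≫ (NatTrans.rightDerived α 0).app Y =
      α.app Y ≫ (Φ' ⋙ Ψ).toRightDerivedZero.app Y :=
    natTrans_zero α Y
  erw [reassoc_of% e, RDer.toRightDerivedZero_edgeOut]
  simp only [Category.assoc]

end Zero

end EtBcLimLib
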