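/-
The adjoint form of the base change morphism for a square and a map of sheaves; composition of squares.
-/
import Groth.Agent.EtBcLimLib.Comp
import Groth.Agent.EtBcQLib.Et
import Groth.Agent.DescSecLib.Et
import Groth.Agent.EtContLib.Cohom

set_option autoImplicit false
set_option linter.all false
set_option backward.isDefEq.respectTransparency false
set_option backward.isDefEq.respectTransparency.types false
set_option synthInstance.maxHeartbeats 400000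
set_option maxHeartbeats 1600000

universe u

open CategoryTheory CategoryTheory.Limits AlgebraicGeometry Opposite DescSecLib

noncomputable section

namespace EtBcLimLib

attribute [local instance] EtSliceLib.pullExact

theorem bc_ext2 {A B C : Scheme.{u}} (a : A ⟶ B) (b : B ⟶ C) {U : C.Etale} {Z : A.Etale}
    (p q : Z ⟶ (EtCoh.bc a).obj ((EtCoh.bc b).obj U))
    (h : p.left ≫ pullback.fst ((EtCoh.bc b).obj U).hom a ≫ pullback.fst U.hom b =
      q.left ≫ pullback.fst ((EtCoh.bc b).obj U).hom a ≫ pullback.fst U.hom b) : p = q := by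
  refine bc_hom_ext a p q ?_
  refine pullback.hom_ext ((Category.assoc _ _ _).trans (h.trans (Category.assoc _ _ _).symm)) ?_
  have e : ∀ r : Z ⟶ (EtCoh.bc a).obj ((EtCoh.bc b).obj U),
      (r.left ≫ pullback.fst ((EtCoh.bc b).obj U).hom a) ≫ pullback.snd U.hom b = Z.hom ≫ a := fun r => by
    rw [← MorphismProperty.Over.w r, Category.assoc, Category.assoc]
    exact congrArg (r.left ≫ ·) pullback.condition
  exact (e p).trans (e q).symm

variable {T S T' S' : Scheme.{u}} (g : T ⟶ S) (g' : T' ⟶ S') (s : S' ⟶ S) (t : T' ⟶ T) (w : t ≫ g = g' ≫ s)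

/-- The comparison of the two iterated base changes along a commutative square. -/
def sqI (W : S.Etale) : (EtCoh.bc g').obj ((EtCoh.bc s).obj W) ⟶ (EtCoh.bc t).obj ((EtCoh.bc g).obj W) :=
  (MorphismProperty.Over.pullbackComp (P := EtCoh.etaleMP) (Q := ⊤) g' s).inv.app W ≫
    (MorphismProperty.Over.pullbackCongr (P := EtCoh.etaleMP) (Q := ⊤) w).inv.app W ≫
    (MorphismProperty.Over.pullbackComp (P := EtCoh.etaleMP) (Q := ⊤) t g).hom.app W

theorem sqI_fst_fst (W : S.Etale) :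
    (sqI g g' s t w W).left ≫ pullback.fst ((EtCoh.bc g).obj W).hom t ≫ pullback.fst W.hom g =
      pullback.fst ((EtCoh.bc s).obj W).hom g' ≫ pullback.fst W.hom s := by
  let a := (MorphismProperty.Over.pullbackComp (P := EtCoh.etaleMP) (Q := ⊤) g' s).app W
  let k := (MorphismProperty.Over.pullbackCongr (P := EtCoh.etaleMP) (Q := ⊤) w).app W
  let b := (MorphismProperty.Over.pullbackComp (P := EtCoh.etaleMP) (Q := ⊤) t g).app W
  show (a.inv.left ≫ k.inv.left ≫ b.hom.left) ≫ pullback.fst ((EtCoh.bc g).obj W).hom t ≫ pullback.fst W.hom g = _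
  have a1 : a.hom.left ≫ pullback.fst ((EtCoh.bc s).obj W).hom g' ≫ pullback.fst W.hom s =
      pullback.fst W.hom (g' ≫ s) := MorphismProperty.Over.pullbackComp_left_fst_fst _ _ _
  have b1 : b.hom.left ≫ pullback.fst ((EtCoh.bc g).obj W).hom t ≫ pullback.fst W.hom g =
      pullback.fst W.hom (t ≫ g) := MorphismProperty.Over.pullbackComp_left_fst_fst _ _ _
  have k1 : k.hom.left ≫ pullback.fst W.hom (g' ≫ s) = pullback.fst W.hom (t ≫ g) :=
    MorphismProperty.Over.pullbackCongr_hom_app_left_fst _ _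
  have ka : k.inv.left ≫ k.hom.left = 𝟙 _ := congrArg (fun z => z.left) k.inv_hom_id
  have aa : a.inv.left ≫ a.hom.left = 𝟙 _ := congrArg (fun z => z.left) a.inv_hom_id
  simp only [Category.assoc]
  rw [b1, ← k1, reassoc_of% ka, ← a1, reassoc_of% aa]

theorem sqα_app (M : EtCoh.Ab T') (W : S.Etale) :
    ((EtBcQLib.sqα g s g' t w).app M).hom.app (op W) = M.obj.map (sqI g g' s t w W).op := by
  rw [sqI, op_comp, op_comp, Functor.map_comp, Functor.map_comp]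
  simp [EtBcQLib.sqα, EtCoh.pushComp, EtCoh.pushCongr]

/-- `R^q g_* F ⟶ s_* R^q g'_* F'` attached to `u : F ⟶ t_* F'`. -/
def R (q : ℕ) {F : EtCoh.Ab T} {F' : EtCoh.Ab T'} (u : F ⟶ (EtCoh.push t).obj F') :
    (EtCoh.Rpush g q).obj F ⟶ (EtCoh.push s).obj ((EtCoh.Rpush g' q).obj F') :=
  EtBcQLib.bcu (EtCoh.push g) (EtCoh.push t) (EtCoh.push g') (EtCoh.push s) (EtBcQLib.sqα g s g' t w) q u

theorem R_natural (q : ℕ) {F G : EtCoh.Ab T} {F' G' : EtCoh.Ab T'} (u : F ⟶ (EtCoh.push t).obj F')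
    (v : G ⟶ (EtCoh.push t).obj G') (a : F ⟶ G) (b : F' ⟶ G') (h : u ≫ (EtCoh.push t).map b = a ≫ v) :
    (EtCoh.Rpush g q).map a ≫ R g g' s t w q v =
      R g g' s t w q u ≫ (EtCoh.push s).map ((EtCoh.Rpush g' q).map b) :=
  EtBcQLib.bcu_natural _ _ _ _ _ q u v a b h

theorem adjL_R_unit (q : ℕ) (F : EtCoh.Ab T) :
    EtContLib.adjL s (R g g' s t w q ((EtCoh.pullPushAdj t).unit.app F)) = EtBC.bcQ g s g' t w q F :=
  congrArg ((EtCoh.pullPushAdj s).homEquiv _ _).symm (EtBcQLib.bcQAdj_eq g s g' t w q F).symm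

theorem toRightDerivedZero_R {F : EtCoh.Ab T} {F' : EtCoh.Ab T'} (u : F ⟶ (EtCoh.push t).obj F') :
    (EtCoh.push g).toRightDerivedZero.app F ≫ R g g' s t w 0 u =
      ((EtCoh.push g).map u ≫ (EtBcQLib.sqα g s g' t w).app F') ≫
        (EtCoh.push s).map ((EtCoh.push g').toRightDerivedZero.app F') :=
  toRightDerivedZero_bcu _ _ _ _ _ u

variable {T'' S'' : Scheme.{u}} (g'' : T'' ⟶ S'') (s₂ : S'' ⟶ S') (t₂ : T'' ⟶ T') (w₂ : t₂ ≫ g' = g'' ≫ s₂)
  (s₃ : S'' ⟶ S) (t₃ : T'' ⟶ T) (w₃ : t₃ ≫ g = g'' ≫ s₃) (hs : s₂ ≫ s = s₃) (ht : t₂ ≫ t = t₃)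

include ht hs in
/-- The maps compose along a tower of squares. -/
theorem R_comp (q : ℕ) {F : EtCoh.Ab T} {F' : EtCoh.Ab T'} {F'' : EtCoh.Ab T''}
    (u : F ⟶ (EtCoh.push t).obj F') (u₂ : F' ⟶ (EtCoh.push t₂).obj F'') (u₃ : F ⟶ (EtCoh.push t₃).obj F'')
    (hu : u ≫ (EtCoh.push t).map u₂ = u₃ ≫ (etPc t₂ t t₃ ht).app F'') :
    R g g' s t w q u ≫ (EtCoh.push s).map (R g' g'' s₂ t₂ w₂ q u₂) =
      R g g'' s₃ t₃ w₃ q u₃ ≫ (etPc s₂ s s₃ hs).app ((EtCoh.Rpush g'' q).obj F'') := by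
  refine bcu_bcu _ _ _ _ _ _ _ _ _ _ _ _ (etPc t₂ t t₃ ht) (etPc s₂ s s₃ hs) (fun Z => ?_) q u u₂ u₃ hu
  refine Sheaf.hom_ext (NatTrans.ext (funext fun W => ?_))
  show Z.obj.map (bcCompHom t₂ t t₃ ht ((EtCoh.bc g).obj W.unop)).op ≫
      ((EtBcQLib.sqα g s g' t w).app ((EtCoh.push t₂).obj Z)).hom.app (op W.unop) ≫
        ((EtBcQLib.sqα g' s₂ g'' t₂ w₂).app Z).hom.app (op ((EtCoh.bc s).obj W.unop)) =
    ((EtBcQLib.sqα g s₃ g'' t₃ w₃).app Z).hom.app (op W.unop) ≫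
      Z.obj.map ((EtCoh.bc g'').map (bcCompHom s₂ s s₃ hs W.unop)).op
  rw [sqα_app, sqα_app, sqα_app]
  show Z.obj.map _ ≫ Z.obj.map ((EtCoh.bc t₂).map (sqI g g' s t w W.unop)).op ≫ _ = _
  simp only [← Z.obj.map_comp, ← op_comp]
  refine congrArg (fun m => Z.obj.map (Quiver.Hom.op m)) ?_
  refine bc_hom_ext t₃ _ _ ?_
  refine pullback.hom_ext ?_ ?_
  · show ((((sqI g' g'' s₂ t₂ w₂ ((EtCoh.bc s).obj W.unop)).left ≫ ((EtCoh.bc t₂).map (sqI g g' s t w W.unop)).left) ≫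
        (bcCompHom t₂ t t₃ ht ((EtCoh.bc g).obj W.unop)).left) ≫ _) ≫ _ =
      ((((EtCoh.bc g'').map (bcCompHom s₂ s s₃ hs W.unop)).left ≫ (sqI g g'' s₃ t₃ w₃ W.unop).left) ≫ _) ≫ _
    simp only [Category.assoc]
    erw [reassoc_of% (bcCompHom_fst t₂ t t₃ ht ((EtCoh.bc g).obj W.unop))]
    erw [reassoc_of% (bc_map_fst t₂ (sqI g g' s t w W.unop))]
    erw [sqI_fst_fst g g' s t w W.unop]
    erw [reassoc_of% (sqI_fst_fst g' g'' s₂ t₂ w₂ ((EtCoh.bc s).obj W.unop))]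
    erw [sqI_fst_fst g g'' s₃ t₃ w₃ W.unop]
    erw [reassoc_of% (bc_map_fst g'' (bcCompHom s₂ s s₃ hs W.unop))]
    erw [bcCompHom_fst s₂ s s₃ hs W.unop]
    rfl
  · have e : ∀ r : (EtCoh.bc g'').obj ((EtCoh.bc s₂).obj ((EtCoh.bc s).obj W.unop)) ⟶
        (EtCoh.bc t₃).obj ((EtCoh.bc g).obj W.unop),
        (r.left ≫ pullback.fst ((EtCoh.bc g).obj W.unop).hom t₃) ≫ pullback.snd W.unop.hom g =
          ((EtCoh.bc g'').obj ((EtCoh.bc s₂).obj ((EtCoh.bc s).obj W.unop))).hom ≫ t₃ := fun r => by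
      rw [← MorphismProperty.Over.w r, Category.assoc, Category.assoc]
      exact congrArg (r.left ≫ ·) pullback.condition
    exact (e _).trans (e _).symm

end EtBcLimLib
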