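/-
Maps on stalks attached to a morphism into a direct image.
-/
import Groth.Agent.EtContLib.Colim

set_option autoImplicit false
set_option linter.all false
set_option backward.isDefEq.respectTransparency false
set_option backward.isDefEq.respectTransparency.types false
set_option synthInstance.maxHeartbeats 400000
set_option maxHeartbeats 1000000

universe u

open CategoryTheory CategoryTheory.Limits AlgebraicGeometry Opposite
open Groth.Agent.EtShLib DescSecLib EtContLib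

noncomputable section

namespace EtBcLimLib

variable {X Y : Scheme.{u}}

/-- For `u : M ⟶ f_* N` and geometric points `ξ` of `X` over `η` of `Y`: the map `M_η → N_ξ`. -/
def sig (f : X ⟶ Y) {Ω : Type u} [Field Ω] [IsSepClosed Ω] (ξ : Spec (CommRingCat.of Ω) ⟶ X)
    (η : Spec (CommRingCat.of Ω) ⟶ Y) (w : ξ ≫ f = η) {M : EtCoh.Ab Y} {N : EtCoh.Ab X}
    (u : M ⟶ (EtCoh.push f).obj N) :
    (stk (A := AddCommGrpCat.{u + 1}) η).obj M ⟶ (stk (A := AddCommGrpCat.{u + 1}) ξ).obj N :=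
  eqToHom (congrArg (fun t => (stk (A := AddCommGrpCat.{u + 1}) t).obj M) w.symm) ≫
    (stalkPull f ξ AddCommGrpCat.{u + 1}).hom.app M ≫ (stk ξ).map (adjL f u)

/-- The lift of a point of a neighbourhood. -/
def liftW (f : X ⟶ Y) {Ω : Type u} [Field Ω] [IsSepClosed Ω] (ξ : Spec (CommRingCat.of Ω) ⟶ X)
    (η : Spec (CommRingCat.of Ω) ⟶ Y) (w : ξ ≫ f = η) {V : Y.Etale} (v : Fib η V) : Fib ξ ((EtCoh.bc f).obj V) :=
  Fib.mk (U := (EtCoh.bc f).obj V) (pullback.lift v.hom ξ (v.w.trans w.symm)) (pullback.lift_snd _ _ _)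

theorem germ_sig (f : X ⟶ Y) {Ω : Type u} [Field Ω] [IsSepClosed Ω] (ξ : Spec (CommRingCat.of Ω) ⟶ X)
    (η : Spec (CommRingCat.of Ω) ⟶ Y) (w : ξ ≫ f = η) {M : EtCoh.Ab Y} {N : EtCoh.Ab X}
    (u : M ⟶ (EtCoh.push f).obj N) (V : Y.Etale) (v : Fib η V) (s : ToType (M.obj.obj (op V))) :
    sig f ξ η w u (germ η M V v s) = germ ξ N ((EtCoh.bc f).obj V) (liftW f ξ η w v) (u.hom.app (op V) s) := by
  subst w
  refine Eq.trans ?_ (germ_adjL f u ξ V v s)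
  rw [sig, eqToHom_refl, Category.id_comp, ConcreteCategory.comp_apply]
  rfl

theorem sig_postcomp (f : X ⟶ Y) {Ω : Type u} [Field Ω] [IsSepClosed Ω] (ξ : Spec (CommRingCat.of Ω) ⟶ X)
    (η : Spec (CommRingCat.of Ω) ⟶ Y) (w : ξ ≫ f = η) {M : EtCoh.Ab Y} {N N' : EtCoh.Ab X}
    (u : M ⟶ (EtCoh.push f).obj N) (φ : N ⟶ N') (y : ToType ((stk (A := AddCommGrpCat.{u + 1}) η).obj M)) :
    sig f ξ η w (u ≫ (EtCoh.push f).map φ) y = (stk ξ).map φ (sig f ξ η w u y) := by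
  obtain ⟨V, v, s, rfl⟩ := exists_germ η y
  rw [germ_sig, germ_sig, germ_natural_apply]
  rfl

theorem sig_precomp (f : X ⟶ Y) {Ω : Type u} [Field Ω] [IsSepClosed Ω] (ξ : Spec (CommRingCat.of Ω) ⟶ X)
    (η : Spec (CommRingCat.of Ω) ⟶ Y) (w : ξ ≫ f = η) {M' M : EtCoh.Ab Y} {N : EtCoh.Ab X}
    (φ : M' ⟶ M) (u : M ⟶ (EtCoh.push f).obj N) (y : ToType ((stk (A := AddCommGrpCat.{u + 1}) η).obj M')) :
    sig f ξ η w (φ ≫ u) y = sig f ξ η w u ((stk η).map φ y) := by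
  obtain ⟨V, v, s, rfl⟩ := exists_germ η y
  rw [germ_natural_apply, germ_sig, germ_sig]
  rfl

theorem sig_comp {A B C : Scheme.{u}} (a : A ⟶ B) (b : B ⟶ C) (c : A ⟶ C) (hc : a ≫ b = c)
    {Ω : Type u} [Field Ω] [IsSepClosed Ω] (ξ : Spec (CommRingCat.of Ω) ⟶ A) (η : Spec (CommRingCat.of Ω) ⟶ B)
    (ζ : Spec (CommRingCat.of Ω) ⟶ C) (wa : ξ ≫ a = η) (wb : η ≫ b = ζ) (wc : ξ ≫ c = ζ)
    {F : EtCoh.Ab C} {M : EtCoh.Ab B} {N : EtCoh.Ab A}
    (β : F ⟶ (EtCoh.push b).obj M) (γ : M ⟶ (EtCoh.push a).obj N) (δ : F ⟶ (EtCoh.push c).obj N)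
    (h : β ≫ (EtCoh.push b).map γ = δ ≫ (etPc a b c hc).app N)
    (y : ToType ((stk (A := AddCommGrpCat.{u + 1}) ζ).obj F)) :
    sig a ξ η wa γ (sig b η ζ wb β y) = sig c ξ ζ wc δ y := by
  obtain ⟨V, v, s, rfl⟩ := exists_germ ζ y
  rw [germ_sig, germ_sig, germ_sig]
  have h' : γ.hom.app (op ((EtCoh.bc b).obj V)) (β.hom.app (op V) s) =
      N.obj.map (bcCompHom a b c hc V).op (δ.hom.app (op V) s) :=
    ConcreteCategory.congr_hom (congrArg (fun t : F ⟶ _ => t.hom.app (op V)) h) s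
  rw [h', germ_res_apply]
  refine congrArg (fun t => germ ξ N ((EtCoh.bc c).obj V) t (δ.hom.app (op V) s)) (Fib.ext ?_)
  rw [Fib.map_hom]
  apply pullback.hom_ext
  · rw [Category.assoc]
    erw [DescSecLib.bcCompHom_fst a b c hc V]
    simp [liftW]
    erw [pullback.lift_fst_assoc, pullback.lift_fst]
  · rw [Category.assoc]
    erw [DescSecLib.bcCompHom_snd a b c hc V]
    simp [liftW]
    exact pullback.lift_snd _ _ _

theorem bijective_sig (f : X ⟶ Y) {Ω : Type u} [Field Ω] [IsSepClosed Ω] (ξ : Spec (CommRingCat.of Ω) ⟶ X)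
    (η : Spec (CommRingCat.of Ω) ⟶ Y) (w : ξ ≫ f = η) {M : EtCoh.Ab Y} {N : EtCoh.Ab X}
    (u : M ⟶ (EtCoh.push f).obj N) [IsIso (adjL f u)] : Function.Bijective (sig f ξ η w u) := by
  haveI : IsIso (sig f ξ η w u) := by rw [sig]; infer_instance
  exact ConcreteCategory.bijective_of_isIso _

theorem isIso_of_bijective_sig (f : X ⟶ Y) {Ω : Type u} [Field Ω] [IsSepClosed Ω] (ξ : Spec (CommRingCat.of Ω) ⟶ X)
    (η : Spec (CommRingCat.of Ω) ⟶ Y) (w : ξ ≫ f = η) {M : EtCoh.Ab Y} {N : EtCoh.Ab X}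
    (u : M ⟶ (EtCoh.push f).obj N) (h : Function.Bijective (sig f ξ η w u)) :
    IsIso ((stk (A := AddCommGrpCat.{u + 1}) ξ).map (adjL f u)) := by
  subst w
  haveI : IsIso (sig f ξ (ξ ≫ f) rfl u) := (ConcreteCategory.isIso_iff_bijective _).2 h
  rw [sig, eqToHom_refl, Category.id_comp, isIso_comp_left_iff] at this
  exact this

end EtBcLimLib
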