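/-
Direct images commute with limits of schemes: degree zero, on stalks.
-/
import Groth.Agent.EtBcLimLib.Push
import Groth.Agent.EtBcLimLib.Sig
import Groth.Agent.EtContLib.Descend
import Groth.Agent.EtContLib.Sections
import Groth.Agent.EtContLib.System
import Groth.Agent.EtShLib.Generate

set_option autoImplicit false
set_option linter.all false
set_option backward.isDefEq.respectTransparency false
set_option backward.isDefEq.respectTransparency.types false
set_option synthInstance.maxHeartbeats 400000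
set_option maxHeartbeats 1000000

universe u

open CategoryTheory CategoryTheory.Limits AlgebraicGeometry Opposite
open Groth.Agent.EtShLib DescSecLib EtContLib

noncomputable section

namespace EtBcLimLib

attribute [local instance] EtSliceLib.pullExact

variable {I : Type u} [SmallCategory I] {Ts Ss : I ⥤ Scheme.{u}} (gN : Ts ⟶ Ss)

/-- The preimage of an étale scheme over a stage. -/
abbrev pre (A : Obj Ss) : Obj Ts := ⟨A.i, (EtCoh.bc (gN.app A.i)).obj A.V⟩

/-- The preimage of a morphism. -/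
def mapF {A B : Obj Ss} (f : A ⟶ B) : pre gN A ⟶ pre gN B :=
  ⟨f.a, pullback.lift (pullback.fst A.V.hom (gN.app A.i) ≫ f.g) (pullback.snd A.V.hom (gN.app A.i) ≫ Ts.map f.a) (by
      rw [Category.assoc, Category.assoc, gN.naturality f.a, ← Category.assoc (pullback.snd _ _),
        ← pullback.condition, Category.assoc]
      exact congrArg (pullback.fst A.V.hom (gN.app A.i) ≫ ·) f.w),
    pullback.lift_snd _ _ _⟩

theorem mapF_fst {A B : Obj Ss} (f : A ⟶ B) :
    (mapF gN f).g ≫ pullback.fst B.V.hom (gN.app B.i) = pullback.fst A.V.hom (gN.app A.i) ≫ f.g :=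
  pullback.lift_fst _ _ _

theorem mapF_comp {A B C : Obj Ss} (f : A ⟶ B) (h : B ⟶ C) : mapF gN (f ≫ h) = mapF gN f ≫ mapF gN h := by
  refine hom_ext' rfl ?_
  apply pullback.hom_ext
  · erw [mapF_fst gN (f ≫ h), Category.assoc, mapF_fst gN h, reassoc_of% (mapF_fst gN f)]
    rfl
  · erw [pullback.lift_snd, Category.assoc, pullback.lift_snd, pullback.lift_snd_assoc]
    simp [Category.assoc]

/-- The transition square. -/
theorem wa {k j : I} (a : k ⟶ j) : Ts.map a ≫ gN.app j = gN.app k ≫ Ss.map a := gN.naturality a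

theorem mapF_eq_cart {A B : Obj Ss} (f : A ⟶ B) :
    mapF gN f = (incl Ts A.i).map ((EtCoh.bc (gN.app A.i)).map (toBc f) ≫
      sqI (gN.app B.i) (gN.app A.i) (Ss.map f.a) (Ts.map f.a) (wa gN f.a) B.V) ≫ cart (pre gN B) f.a := by
  refine hom_ext' (Category.id_comp _).symm ?_
  apply pullback.hom_ext
  · erw [mapF_fst gN f]
    show _ = ((((EtCoh.bc (gN.app A.i)).map (toBc f)).left ≫
      (sqI (gN.app B.i) (gN.app A.i) (Ss.map f.a) (Ts.map f.a) (wa gN f.a) B.V).left) ≫ _) ≫ _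
    simp only [Category.assoc]
    erw [sqI_fst_fst (gN.app B.i) (gN.app A.i) (Ss.map f.a) (Ts.map f.a) (wa gN f.a) B.V]
    erw [reassoc_of% (DescSecLib.bc_map_fst (gN.app A.i) (toBc f))]
    erw [toBc_fst f]
  · exact (mapF gN f).w.trans (((incl Ts A.i).map ((EtCoh.bc (gN.app A.i)).map (toBc f) ≫
      sqI (gN.app B.i) (gN.app A.i) (Ss.map f.a) (Ts.map f.a) (wa gN f.a) B.V) ≫ cart (pre gN B) f.a).w.trans
        (congrArg (fun z => _ ≫ Ts.map z) (Category.id_comp f.a))).symm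

variable {cT : Cone Ts} {cS : Cone Ss} (g : cT.pt ⟶ cS.pt) (hg : ∀ i, cT.π.app i ≫ gN.app i = g ≫ cS.π.app i)

theorem sq_nat {A B : Obj Ss} (f : A ⟶ B) :
    (EtCoh.bc g).map ((uF cS).map f) ≫ sqI (gN.app B.i) g (cS.π.app B.i) (cT.π.app B.i) (hg B.i) B.V =
      sqI (gN.app A.i) g (cS.π.app A.i) (cT.π.app A.i) (hg A.i) A.V ≫ (uF cT).map (mapF gN f) := by
  refine bc_ext2 _ _ _ _ ?_
  show (((EtCoh.bc g).map ((uF cS).map f)).left ≫ _) ≫ _ = (_ ≫ ((uF cT).map (mapF gN f)).left) ≫ _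
  simp only [Category.assoc]
  erw [sqI_fst_fst (gN.app B.i) g (cS.π.app B.i) (cT.π.app B.i) (hg B.i) B.V]
  erw [reassoc_of% (uF_map_fst cT (mapF gN f))]
  erw [mapF_fst gN f]
  erw [reassoc_of% (sqI_fst_fst (gN.app A.i) g (cS.π.app A.i) (cT.π.app A.i) (hg A.i) A.V)]
  erw [reassoc_of% (DescSecLib.bc_map_fst g ((uF cS).map f))]
  erw [uF_map_fst cS f]

instance isIso_sqI {T S T' S' : Scheme.{u}} (g : T ⟶ S) (g' : T' ⟶ S') (s : S' ⟶ S) (t : T' ⟶ T)
    (w : t ≫ g = g' ≫ s) (W : S.Etale) : IsIso (sqI g g' s t w W) := by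
  rw [sqI]; infer_instance

variable {P : Sheaf (topology Ts) AddCommGrpCat.{u + 1}} (C : Coc cT P)

/-- The maps of direct images at a stage. -/
def z (i : I) : (EtCoh.push (gN.app i)).obj ((fib i).obj P) ⟶
    (EtCoh.push (cS.π.app i)).obj ((EtCoh.push g).obj C.G) :=
  (EtCoh.push (gN.app i)).map (C.comp i) ≫
    (EtBcQLib.sqα (gN.app i) (cS.π.app i) g (cT.π.app i) (hg i)).app C.G

/-- The maps of direct images along a transition. -/
def zt {k j : I} (a : k ⟶ j) : (EtCoh.push (gN.app j)).obj ((fib j).obj P) ⟶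
    (EtCoh.push (Ss.map a)).obj ((EtCoh.push (gN.app k)).obj ((fib k).obj P)) :=
  (EtCoh.push (gN.app j)).map (trans P a) ≫
    (EtBcQLib.sqα (gN.app j) (Ss.map a) (gN.app k) (Ts.map a) (wa gN a)).app ((fib k).obj P)

theorem z_app (i : I) (V : (Ss.obj i).Etale) (s : P.obj.obj (op (pre gN ((incl Ss i).obj V)))) :
    (z gN g hg C i).hom.app (op V) s = C.G.obj.map (sqI (gN.app i) g (cS.π.app i) (cT.π.app i) (hg i) V).op
      (C.η.app (op (pre gN ((incl Ss i).obj V))) s) := by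
  show ((EtBcQLib.sqα (gN.app i) (cS.π.app i) g (cT.π.app i) (hg i)).app C.G).hom.app (op V) _ = _
  rw [sqα_app]
  rfl

theorem zt_app {k j : I} (a : k ⟶ j) (V : (Ss.obj j).Etale) (s : P.obj.obj (op (pre gN ((incl Ss j).obj V)))) :
    (zt gN (P := P) a).hom.app (op V) s =
      P.obj.map ((incl Ts k).map (sqI (gN.app j) (gN.app k) (Ss.map a) (Ts.map a) (wa gN a) V) ≫
        cart (pre gN ((incl Ss j).obj V)) a).op s := by
  show ((EtBcQLib.sqα (gN.app j) (Ss.map a) (gN.app k) (Ts.map a) (wa gN a)).app ((fib k).obj P)).hom.app (op V) _ = _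
  rw [sqα_app, op_comp, Functor.map_comp, ConcreteCategory.comp_apply]
  rfl

variable {Ω : Type u} [Field Ω] [IsSepClosed Ω]

/-- The point of a stage below a point of the limit. -/
def projFib {ξ : Spec (CommRingCat.of Ω) ⟶ cS.pt} {A : Obj Ss} (x : Fib ξ ((uF cS).obj A)) :
    Fib (ξ ≫ cS.π.app A.i) A.V :=
  Fib.mk (x.hom ≫ pullback.fst A.V.hom (cS.π.app A.i)) (by
    rw [Category.assoc, pullback.condition, ← Category.assoc]
    exact congrArg (· ≫ cS.π.app A.i) x.w)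

theorem liftW_projFib {ξ : Spec (CommRingCat.of Ω) ⟶ cS.pt} {A : Obj Ss} (x : Fib ξ ((uF cS).obj A)) :
    liftW (cS.π.app A.i) ξ _ rfl (projFib x) = x := by
  refine Fib.ext ?_
  apply pullback.hom_ext
  · exact pullback.lift_fst _ _ _
  · exact (pullback.lift_snd _ _ _).trans x.w.symm

theorem projFib_map_toBc {ξ : Spec (CommRingCat.of Ω) ⟶ cS.pt} {A B : Obj Ss} (f : A ⟶ B)
    (x : Fib ξ ((uF cS).obj A)) (v : Fib (ξ ≫ cS.π.app B.i) B.V)
    (h : x.map ((uF cS).map f) = liftW (cS.π.app B.i) ξ _ rfl v) :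
    (projFib x).map (toBc f) = liftW (Ss.map f.a) (ξ ≫ cS.π.app A.i) (ξ ≫ cS.π.app B.i)
      (by rw [Category.assoc, cS.w]) v := by
  refine Fib.ext ?_
  apply pullback.hom_ext
  · refine ((Category.assoc _ _ _).trans ?_).trans (pullback.lift_fst _ _ _).symm
    erw [toBc_fst f]
    refine (Category.assoc _ _ _).trans ?_
    erw [← uF_map_fst cS f]
    rw [← Category.assoc]
    exact (congrArg (fun t : Fib ξ ((uF cS).obj B) => t.hom ≫ pullback.fst B.V.hom (cS.π.app B.i)) h).trans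
      (pullback.lift_fst _ _ _)
  · refine ((projFib x).map (toBc f)).w.trans (pullback.lift_snd _ _ _).symm

variable [IsCofiltered I] (hcT : IsLimit cT) (hcS : IsLimit cS)
  [∀ (i j : I) (f : i ⟶ j), IsAffineHom (Ts.map f)] [∀ (i j : I) (f : i ⟶ j), IsAffineHom (Ss.map f)]
  [∀ i, CompactSpace (Ts.obj i)] [∀ i, QuasiSeparatedSpace (Ts.obj i)]
  [∀ i, CompactSpace (Ss.obj i)] [∀ i, QuasiSeparatedSpace (Ss.obj i)]
  [∀ i, QuasiCompact (gN.app i)] [∀ i, QuasiSeparated (gN.app i)] (hC : C.IsLim)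

theorem compact_pre (A : Obj Ss) [CompactSpace A.V.left] : CompactSpace (pre gN A).V.left := by
  haveI : CompactSpace ↥((𝟭 Scheme).obj A.V.left) := inferInstanceAs (CompactSpace ↥A.V.left)
  exact QuasiCompact.compactSpace_of_compactSpace (pullback.fst A.V.hom (gN.app A.i))

theorem qs_pre (A : Obj Ss) [QuasiSeparatedSpace A.V.left] : QuasiSeparatedSpace (pre gN A).V.left := by
  haveI : QuasiSeparatedSpace ↥((𝟭 Scheme).obj A.V.left) := inferInstanceAs (QuasiSeparatedSpace ↥A.V.left)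
  exact quasiSeparatedSpace_of_quasiSeparated (pullback.fst A.V.hom (gN.app A.i))

include hcT hcS hC in
theorem gen_zero (ξ : Spec (CommRingCat.of Ω) ⟶ cS.pt)
    (q : ToType ((stk (A := AddCommGrpCat.{u + 1}) ξ).obj ((EtCoh.push g).obj C.G))) :
    ∃ (i : I) (y : ToType ((stk (A := AddCommGrpCat.{u + 1}) (ξ ≫ cS.π.app i)).obj
      ((EtCoh.push (gN.app i)).obj ((fib i).obj P)))),
      sig (cS.π.app i) ξ _ rfl (z gN g hg C i) y = q := by
  obtain ⟨U₀, u₀, t₀, rfl⟩ := exists_germ (A := AddCommGrpCat.{u + 1}) ξ q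
  obtain ⟨U, r, u', hU, rfl⟩ := exists_affine_below' ξ U₀ u₀
  obtain ⟨A, hAc, hAq, ⟨e⟩⟩ := exists_obj hcS U
  haveI := compact_pre gN A
  haveI := qs_pre gN A
  let t₁ := ((EtCoh.push g).obj C.G).obj.map (e.hom ≫ r).op t₀
  let sI := sqI (gN.app A.i) g (cS.π.app A.i) (cT.π.app A.i) (hg A.i) A.V
  obtain ⟨k, a, s, hs⟩ := exists_stage_lift hcT hC (pre gN A) (C.G.obj.map (inv sI).op t₁)
  let A' := bcObj A a
  let l : pre gN A' ⟶ bcObj (pre gN A) a := liftBc (mapF gN (cart A a)) a (𝟙 k) (Category.id_comp _)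
  haveI := isIso_uF_cart (c := cS) A a
  let x : Fib ξ ((uF cS).obj A') := u'.map (e.inv ≫ inv ((uF cS).map (cart A a)))
  refine ⟨k, germ (A := AddCommGrpCat.{u + 1}) (ξ ≫ cS.π.app k) ((EtCoh.push (gN.app k)).obj ((fib k).obj P)) A'.V (projFib x) (P.obj.map l.op s), ?_⟩
  rw [germ_sig]
  erw [liftW_projFib x]
  rw [z_app]
  erw [C.η_nat]
  rw [hs, gmap_map, gmap_map, Category.assoc, ← (uF cT).map_comp]
  erw [liftBc_cart]
  erw [gmap_map, ← sq_nat gN g hg (cart A a)]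
  erw [Category.assoc, IsIso.hom_inv_id, Category.comp_id]
  show germ ξ ((EtCoh.push g).obj C.G) ((uF cS).obj A') x
    (((EtCoh.push g).obj C.G).obj.map ((uF cS).map (cart A a)).op t₁) = _
  rw [germ_res_apply, germ_res_apply]
  refine congrArg (fun w => germ ξ ((EtCoh.push g).obj C.G) U₀ w t₀) (Fib.ext ?_)
  refine ((Category.assoc _ _ _).trans ((Category.assoc _ _ _).trans (congrArg (u'.hom ≫ ·) ?_)))
  exact congrArg (fun w : U ⟶ U₀ => w.left) (show (e.inv ≫ inv ((uF cS).map (cart A a))) ≫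
      (uF cS).map (cart A a) ≫ e.hom ≫ r = r by simp)

include hcT hcS hC in
theorem van_zero (ξ : Spec (CommRingCat.of Ω) ⟶ cS.pt) (i : I)
    (y : ToType ((stk (A := AddCommGrpCat.{u + 1}) (ξ ≫ cS.π.app i)).obj
      ((EtCoh.push (gN.app i)).obj ((fib i).obj P))))
    (h : sig (cS.π.app i) ξ _ rfl (z gN g hg C i) y = 0) :
    ∃ (k : I) (a : k ⟶ i), sig (Ss.map a) (ξ ≫ cS.π.app k) (ξ ≫ cS.π.app i) (by rw [Category.assoc, cS.w])
      (zt gN a) y = 0 := by
  obtain ⟨V, v, s, rfl⟩ := exists_germ (A := AddCommGrpCat.{u + 1}) (ξ ≫ cS.π.app i) y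
  rw [germ_sig, z_app] at h
  let A : Obj Ss := (incl Ss i).obj V
  obtain ⟨U₁, r₁, u₁, hu₁, he⟩ := (germ_eq_iff (A := AddCommGrpCat.{u + 1}) (F := (EtCoh.push g).obj C.G) ξ
    ((uF cS).obj A) (liftW (cS.π.app i) ξ _ rfl v) _ 0).1 (h.trans (map_zero _).symm)
  obtain ⟨U, r, u', hU, rfl⟩ := exists_affine_below' ξ U₁ u₁
  obtain ⟨B', hBc, hBq, ⟨e⟩⟩ := exists_obj hcS U
  obtain ⟨k, a, b, m, hm⟩ := exists_hom hcS B' A (e.hom ≫ r ≫ r₁)
  let W := bcObj B' a
  haveI : CompactSpace W.V.left := compactSpace_bcObj B' a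
  haveI := compact_pre gN W
  let f₀ : W ⟶ A := (incl Ss k).map m ≫ cart A b
  have hf₀ : (uF cS).map f₀ = (uF cS).map (cart B' a) ≫ e.hom ≫ r ≫ r₁ := ((uF cS).map_comp _ _).trans hm
  have hz : C.η.app (op (pre gN W)) (P.obj.map (mapF gN f₀).op s) = 0 := by
    apply (ConcreteCategory.bijective_of_isIso
      (C.G.obj.map (sqI (gN.app k) g (cS.π.app k) (cT.π.app k) (hg k) W.V).op)).1
    rw [C.η_nat, gmap_map, map_zero]
    erw [← sq_nat gN g hg f₀]
    rw [← gmap_map]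
    show ((EtCoh.push g).obj C.G).obj.map ((uF cS).map f₀).op _ = 0
    rw [hf₀, op_comp, op_comp, op_comp]
    simp only [Functor.map_comp, ConcreteCategory.comp_apply]
    erw [he]
    simp only [map_zero]
  obtain ⟨l, c₀, hc₀⟩ := exists_stage_zero hcT hC (pre gN W) _ hz
  let f : bcObj W c₀ ⟶ A := cart W c₀ ≫ f₀
  haveI := isIso_uF_cart (c := cS) W c₀
  haveI := isIso_uF_cart (c := cS) B' a
  let x : Fib ξ ((uF cS).obj (bcObj W c₀)) :=
    u'.map (e.inv ≫ inv ((uF cS).map (cart B' a)) ≫ inv ((uF cS).map (cart W c₀)))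
  refine ⟨l, f.a, ?_⟩
  rw [germ_sig, zt_app]
  have hx : x.map ((uF cS).map f) = liftW (cS.π.app i) ξ _ rfl v := by
    rw [← hu₁]
    refine Fib.ext ?_
    refine ((Category.assoc _ _ _).trans (congrArg (u'.hom ≫ ·) ?_)).trans (Category.assoc _ _ _).symm
    exact congrArg (fun w : U ⟶ (uF cS).obj A => w.left) (show (e.inv ≫ inv ((uF cS).map (cart B' a)) ≫
      inv ((uF cS).map (cart W c₀))) ≫ (uF cS).map f = r ≫ r₁ by
        rw [(uF cS).map_comp, hf₀]; simp)
  rw [← projFib_map_toBc f x v hx, ← germ_res_apply]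
  have key : P.obj.map ((incl Ts l).map ((EtCoh.bc (gN.app l)).map (toBc f))).op
      (P.obj.map ((incl Ts l).map (sqI (gN.app i) (gN.app l) (Ss.map f.a) (Ts.map f.a) (wa gN f.a) V) ≫
        cart (pre gN A) f.a).op s) = 0 := by
    rw [map_map, ← Category.assoc, ← (incl Ts l).map_comp]
    erw [← mapF_eq_cart gN f]
    rw [mapF_comp, ← map_map, show mapF gN (cart W c₀) = liftBc (mapF gN (cart W c₀)) c₀ (𝟙 l) (Category.id_comp _) ≫
      cart (pre gN W) c₀ from (liftBc_cart _ _ _ _).symm, ← map_map]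
    erw [hc₀]
    rw [map_zero]
  exact (congrArg _ key).trans (map_zero _)

end EtBcLimLib
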