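/-
Higher direct images commute with limits of schemes, on stalks.
-/
import Groth.Agent.EtBcLimLib.Zero
import Groth.Agent.EtBcLimLib.Acyclic
import Groth.Agent.EtContLib.Main

set_option autoImplicit false
set_option linter.all false
set_option backward.isDefEq.respectTransparency false
set_option backward.isDefEq.respectTransparency.types false
set_option synthInstance.maxHeartbeats 400000
set_option maxHeartbeats 1600000

universe u

open CategoryTheory CategoryTheory.Limits AlgebraicGeometry Opposite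
open Groth.Agent Groth.Agent.EtShLib DescSecLib EtContLib

noncomputable section

namespace EtBcLimLib

attribute [local instance] EtSliceLib.pullExact

section Gen

variable {T S T' S' : Scheme.{u}} (g : T ⟶ S) (g' : T' ⟶ S') (s : S' ⟶ S) (t : T' ⟶ T) (w : t ≫ g = g' ≫ s)

/-- The maps commute with the connecting morphisms. -/
theorem R_delta (q : ℕ) {U : ShortComplex (EtCoh.Ab T)} (hU : U.ShortExact) {U' : ShortComplex (EtCoh.Ab T')}
    (hU' : U'.ShortExact) (φ : U ⟶ U'.map (EtCoh.push t)) :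
    (EtCechInjLib.derDelta (EtCoh.push g)).δ hU q ≫ R g g' s t w (q + 1) (F := U.X₁) (F' := U'.X₁) φ.τ₁ =
      R g g' s t w q (F := U.X₃) (F' := U'.X₃) φ.τ₃ ≫
        (EtCoh.push s).map ((EtCechInjLib.derDelta (EtCoh.push g')).δ hU' q) := by
  let A := Groth.Agent.RDerLib.res hU
  let A' := Groth.Agent.RDerLib.res hU'
  rw [show (EtCechInjLib.derDelta (EtCoh.push g)).δ hU q = A.delta (EtCoh.push g) q (q + 1) rfl from
      (Groth.Agent.RDerLib.derivedLES (EtCoh.push g)).δ_eq _ hU A q (q + 1) rfl,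
    show (EtCechInjLib.derDelta (EtCoh.push g')).δ hU' q = A'.delta (EtCoh.push g') q (q + 1) rfl from
      (Groth.Agent.RDerLib.derivedLES (EtCoh.push g')).δ_eq _ hU' A' q (q + 1) rfl]
  exact EtBcQLib.bcu_delta (EtCoh.push g) (EtCoh.push t) (EtCoh.push g') (EtCoh.push s)
    (EtBcQLib.sqα g s g' t w) A A' φ q (q + 1) rfl

theorem stk_exact {X : Scheme.{u}} {U : ShortComplex (EtCoh.Ab X)} (hU : U.Exact) {Ω : Type u} [Field Ω]
    [IsSepClosed Ω] (ξ : Spec (CommRingCat.of Ω) ⟶ X)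
    (y : ToType ((stk (A := AddCommGrpCat.{u + 1}) ξ).obj U.X₂)) (hy : (stk ξ).map U.g y = 0) :
    ∃ x, (stk ξ).map U.f x = y :=
  (ShortComplex.ab_exact_iff _).1 (hU.map (stk (A := AddCommGrpCat.{u + 1}) ξ)) y hy

theorem eq_zero_of_isZero {X : Scheme.{u}} {M : EtCoh.Ab X} (hM : IsZero M) {Ω : Type u} [Field Ω]
    [IsSepClosed Ω] (ξ : Spec (CommRingCat.of Ω) ⟶ X) (x : ToType ((stk (A := AddCommGrpCat.{u + 1}) ξ).obj M)) :
    x = 0 :=
  haveI := AddCommGrpCat.subsingleton_of_isZero ((stk (A := AddCommGrpCat.{u + 1}) ξ).map_isZero hM)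
  Subsingleton.elim _ _

end Gen

variable {I : Type u} [SmallCategory I] {Ts Ss : I ⥤ Scheme.{u}} (gN : Ts ⟶ Ss)
  {cT : Cone Ts} {cS : Cone Ss} (g : cT.pt ⟶ cS.pt) (hg : ∀ i, cT.π.app i ≫ gN.app i = g ≫ cS.π.app i)

/-- The map of higher direct images at a stage. -/
abbrev Rz {P : Sheaf (topology Ts) AddCommGrpCat.{u + 1}} (C : Coc cT P) (q : ℕ) (i : I) :
    (EtCoh.Rpush (gN.app i) q).obj ((fib i).obj P) ⟶
      (EtCoh.push (cS.π.app i)).obj ((EtCoh.Rpush g q).obj C.G) :=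
  R (gN.app i) g (cS.π.app i) (cT.π.app i) (hg i) q (C.comp i)

/-- The map of higher direct images along a transition. -/
abbrev Rt (P : Sheaf (topology Ts) AddCommGrpCat.{u + 1}) (q : ℕ) {k j : I} (a : k ⟶ j) :
    (EtCoh.Rpush (gN.app j) q).obj ((fib j).obj P) ⟶
      (EtCoh.push (Ss.map a)).obj ((EtCoh.Rpush (gN.app k) q).obj ((fib k).obj P)) :=
  R (gN.app j) (gN.app k) (Ss.map a) (Ts.map a) (wa gN a) q (trans P a)

variable {Ω : Type u} [Field Ω] [IsSepClosed Ω]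

theorem sig_Rz_Rt {P : Sheaf (topology Ts) AddCommGrpCat.{u + 1}} (C : Coc cT P) (q : ℕ)
    (ξ : Spec (CommRingCat.of Ω) ⟶ cS.pt) {k j : I} (a : k ⟶ j)
    (y : ToType ((stk (A := AddCommGrpCat.{u + 1}) (ξ ≫ cS.π.app j)).obj
      ((EtCoh.Rpush (gN.app j) q).obj ((fib j).obj P)))) :
    sig (cS.π.app k) ξ _ rfl (Rz gN g hg C q k)
        (sig (Ss.map a) (ξ ≫ cS.π.app k) (ξ ≫ cS.π.app j) (by rw [Category.assoc, cS.w]) (Rt gN P q a) y) =
      sig (cS.π.app j) ξ _ rfl (Rz gN g hg C q j) y :=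
  sig_comp _ _ _ (cS.w a) ξ _ _ rfl _ rfl _ _ _
    (R_comp (gN.app j) (gN.app k) (Ss.map a) (Ts.map a) (wa gN a) g (cS.π.app k) (cT.π.app k) (hg k)
      (cS.π.app j) (cT.π.app j) (hg j) (cS.w a) (cT.w a) q (trans P a) (C.comp k) (C.comp j) (comp_trans C a)) y

theorem sig_Rt_Rt (P : Sheaf (topology Ts) AddCommGrpCat.{u + 1}) (q : ℕ)
    (ξ : Spec (CommRingCat.of Ω) ⟶ cS.pt) {l k j : I} (e : l ⟶ k) (a : k ⟶ j)
    (y : ToType ((stk (A := AddCommGrpCat.{u + 1}) (ξ ≫ cS.π.app j)).obj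
      ((EtCoh.Rpush (gN.app j) q).obj ((fib j).obj P)))) :
    sig (Ss.map e) (ξ ≫ cS.π.app l) (ξ ≫ cS.π.app k) (by rw [Category.assoc, cS.w]) (Rt gN P q e)
        (sig (Ss.map a) (ξ ≫ cS.π.app k) (ξ ≫ cS.π.app j) (by rw [Category.assoc, cS.w]) (Rt gN P q a) y) =
      sig (Ss.map (e ≫ a)) (ξ ≫ cS.π.app l) (ξ ≫ cS.π.app j) (by rw [Category.assoc, cS.w])
        (Rt gN P q (e ≫ a)) y :=
  sig_comp _ _ _ (Ss.map_comp e a).symm (ξ ≫ cS.π.app l) _ _ _ _ _ _ _ _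
    (R_comp (gN.app j) (gN.app k) (Ss.map a) (Ts.map a) (wa gN a) (gN.app l) (Ss.map e) (Ts.map e) (wa gN e)
      (Ss.map (e ≫ a)) (Ts.map (e ≫ a)) (wa gN (e ≫ a)) (Ss.map_comp e a).symm (Ts.map_comp e a).symm q
      (trans P a) (trans P e) (trans P (e ≫ a)) (trans_comp P e a)) y

theorem sig_Rz_map {P Q : Sheaf (topology Ts) AddCommGrpCat.{u + 1}} (φ : P ⟶ Q) (q : ℕ)
    (ξ : Spec (CommRingCat.of Ω) ⟶ cS.pt) (i : I)
    (y : ToType ((stk (A := AddCommGrpCat.{u + 1}) (ξ ≫ cS.π.app i)).obj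
      ((EtCoh.Rpush (gN.app i) q).obj ((fib i).obj P)))) :
    sig (cS.π.app i) ξ _ rfl (Rz gN g hg (lam cT Q) q i)
        ((stk (ξ ≫ cS.π.app i)).map ((EtCoh.Rpush (gN.app i) q).map ((fib i).map φ)) y) =
      (stk ξ).map ((EtCoh.Rpush g q).map (lamMap cT φ))
        (sig (cS.π.app i) ξ _ rfl (Rz gN g hg (lam cT P) q i) y) := by
  rw [← sig_precomp, ← sig_postcomp, Rz, Rz,
    R_natural _ _ _ _ (hg i) q ((lam cT P).comp i) ((lam cT Q).comp i) ((fib i).map φ) (lamMap cT φ)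
      (comp_naturality (lam cT P) (lam cT Q) φ (lamMap cT φ) (fun A s => (lamMap_η cT φ A s).symm) i).symm]
  rfl

theorem sig_Rt_map {P Q : Sheaf (topology Ts) AddCommGrpCat.{u + 1}} (φ : P ⟶ Q) (q : ℕ)
    (ξ : Spec (CommRingCat.of Ω) ⟶ cS.pt) {k j : I} (a : k ⟶ j)
    (y : ToType ((stk (A := AddCommGrpCat.{u + 1}) (ξ ≫ cS.π.app j)).obj
      ((EtCoh.Rpush (gN.app j) q).obj ((fib j).obj P)))) :
    sig (Ss.map a) (ξ ≫ cS.π.app k) (ξ ≫ cS.π.app j) (by rw [Category.assoc, cS.w]) (Rt gN Q q a)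
        ((stk (ξ ≫ cS.π.app j)).map ((EtCoh.Rpush (gN.app j) q).map ((fib j).map φ)) y) =
      (stk (ξ ≫ cS.π.app k)).map ((EtCoh.Rpush (gN.app k) q).map ((fib k).map φ))
        (sig (Ss.map a) (ξ ≫ cS.π.app k) (ξ ≫ cS.π.app j) (by rw [Category.assoc, cS.w]) (Rt gN P q a) y) := by
  rw [← sig_precomp, ← sig_postcomp, Rt, Rt,
    R_natural _ _ _ _ (wa gN a) q (trans P a) (trans Q a) ((fib j).map φ) ((fib k).map φ)
      (trans_naturality φ a).symm]

/-- Continuity of direct images in one degree, for the universal extension. -/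
def RCont (q : ℕ) : Prop :=
  ∀ (P : Sheaf (topology Ts) AddCommGrpCat.{u + 1}) (Ω : Type u) [Field Ω] [IsSepClosed Ω]
    (ξ : Spec (CommRingCat.of Ω) ⟶ cS.pt),
    (∀ z : ToType ((stk (A := AddCommGrpCat.{u + 1}) ξ).obj ((EtCoh.Rpush g q).obj (lam cT P).G)),
      ∃ (i : I) (y : ToType ((stk (A := AddCommGrpCat.{u + 1}) (ξ ≫ cS.π.app i)).obj
        ((EtCoh.Rpush (gN.app i) q).obj ((fib i).obj P)))),
        sig (cS.π.app i) ξ _ rfl (Rz gN g hg (lam cT P) q i) y = z) ∧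
    (∀ (i : I) (y : ToType ((stk (A := AddCommGrpCat.{u + 1}) (ξ ≫ cS.π.app i)).obj
        ((EtCoh.Rpush (gN.app i) q).obj ((fib i).obj P)))),
      sig (cS.π.app i) ξ _ rfl (Rz gN g hg (lam cT P) q i) y = 0 →
        ∃ (k : I) (a : k ⟶ i), sig (Ss.map a) (ξ ≫ cS.π.app k) (ξ ≫ cS.π.app i) (by rw [Category.assoc, cS.w])
          (Rt gN P q a) y = 0)

variable [IsCofiltered I] (hcT : IsLimit cT) (hcS : IsLimit cS)
  [∀ (i j : I) (f : i ⟶ j), IsAffineHom (Ts.map f)] [∀ (i j : I) (f : i ⟶ j), IsAffineHom (Ss.map f)]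
  [∀ i, CompactSpace (Ts.obj i)] [∀ i, QuasiSeparatedSpace (Ts.obj i)]
  [∀ i, CompactSpace (Ss.obj i)] [∀ i, QuasiSeparatedSpace (Ss.obj i)]
  [∀ i, QuasiCompact (gN.app i)] [∀ i, QuasiSeparated (gN.app i)] [QuasiCompact g] [QuasiSeparated g]

include hcT hcS in
theorem rcont_zero : RCont gN g hg 0 := fun P Ω _ _ ξ => by
  haveI : ∀ i, IsIso ((EtCoh.push (gN.app i)).toRightDerivedZero.app ((fib i).obj P)) := fun i => inferInstance
  haveI : IsIso ((EtCoh.push g).toRightDerivedZero.app (lam cT P).G) := inferInstance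
  have ez : ∀ i y, sig (cS.π.app i) ξ _ rfl (Rz gN g hg (lam cT P) 0 i)
      ((stk (A := AddCommGrpCat.{u + 1}) (ξ ≫ cS.π.app i)).map
        ((EtCoh.push (gN.app i)).toRightDerivedZero.app ((fib i).obj P)) y) =
      (stk ξ).map ((EtCoh.push g).toRightDerivedZero.app (lam cT P).G)
        (sig (cS.π.app i) ξ _ rfl (z gN g hg (lam cT P) i) y) := fun i y => by
    rw [← sig_precomp, ← sig_postcomp, Rz, toRightDerivedZero_R]
    rfl
  refine ⟨fun w => ?_, fun i y hy => ?_⟩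
  · obtain ⟨w', rfl⟩ := (ConcreteCategory.bijective_of_isIso
      ((stk (A := AddCommGrpCat.{u + 1}) ξ).map ((EtCoh.push g).toRightDerivedZero.app (lam cT P).G))).2 w
    obtain ⟨i, y, rfl⟩ := gen_zero gN g hg (lam cT P) hcT hcS (isLim_lam cT P) ξ w'
    exact ⟨i, _, ez i y⟩
  · obtain ⟨y', rfl⟩ := (ConcreteCategory.bijective_of_isIso
      ((stk (A := AddCommGrpCat.{u + 1}) (ξ ≫ cS.π.app i)).map
        ((EtCoh.push (gN.app i)).toRightDerivedZero.app ((fib i).obj P)))).2 y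
    have h0 : sig (cS.π.app i) ξ _ rfl (z gN g hg (lam cT P) i) y' = 0 :=
      (ConcreteCategory.bijective_of_isIso
        ((stk (A := AddCommGrpCat.{u + 1}) ξ).map ((EtCoh.push g).toRightDerivedZero.app (lam cT P).G))).1
        (((ez i y').symm.trans hy).trans (map_zero _).symm)
    obtain ⟨k, a, ha⟩ := van_zero gN g hg (lam cT P) hcT hcS (isLim_lam cT P) ξ i y' h0
    refine ⟨k, a, ?_⟩
    rw [← sig_precomp, Rt, toRightDerivedZero_R, sig_postcomp]
    exact (congrArg _ ha).trans (map_zero _)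

include hcT hcS in
theorem rcont : ∀ q, RCont gN g hg q
  | 0 => rcont_zero gN g hg hcT hcS
  | n + 1 => fun P Ω _ _ ξ => by
    have IH := rcont n
    let S : ShortComplex (Sheaf (topology Ts) AddCommGrpCat.{u + 1}) :=
      ShortComplex.mk (Injective.ι P) (cokernel.π (Injective.ι P)) (cokernel.condition _)
    have hS : S.ShortExact :=
      { exact := ShortComplex.exact_of_g_is_cokernel _ (cokernelIsCokernel (Injective.ι P))
        mono_f := inferInstanceAs (Mono (Injective.ι P))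
        epi_g := inferInstanceAs (Epi (cokernel.π (Injective.ι P))) }
    haveI : Injective S.X₂ := inferInstanceAs (Injective (Injective.under P))
    let D := EtCechInjLib.derDelta (EtCoh.push g)
    let Di := fun i => EtCechInjLib.derDelta (EtCoh.push (gN.app i))
    have hL := shortExact_lamSC (c := cT) hS
    have hF := fun i => shortExact_fib hS i
    have hJ : IsZero ((EtCoh.Rpush g (n + 1)).obj (lam cT S.X₂).G) :=
      isZero_Rpush_cechAcyclicQ g n _ (cechAcyclicQ_limit hcT (isLim_lam cT S.X₂))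
    have hJi : ∀ i, IsZero ((EtCoh.Rpush (gN.app i) (n + 1)).obj ((fib i).obj S.X₂)) := fun i =>
      isZero_Rpush_cechAcyclicQ (gN.app i) n _ (cechAcyclicQ_fib S.X₂ i)
    have dz : ∀ i y, sig (cS.π.app i) ξ _ rfl (Rz gN g hg (lam cT S.X₁) (n + 1) i)
        ((stk (A := AddCommGrpCat.{u + 1}) (ξ ≫ cS.π.app i)).map ((Di i).δ (hF i) n) y) =
        (stk ξ).map (D.δ hL n) (sig (cS.π.app i) ξ _ rfl (Rz gN g hg (lam cT S.X₃) n i) y) := fun i y => by
      let φ : S.map (fib i) ⟶ (lamSC cT S).map (EtCoh.push (cT.π.app i)) :=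
        ShortComplex.homMk ((lam cT S.X₁).comp i) ((lam cT S.X₂).comp i) ((lam cT S.X₃).comp i)
          (comp_naturality _ _ S.f (lamMap cT S.f) (fun A s => (lamMap_η cT S.f A s).symm) i).symm
          (comp_naturality _ _ S.g (lamMap cT S.g) (fun A s => (lamMap_η cT S.g A s).symm) i).symm
      refine (sig_precomp (cS.π.app i) ξ _ rfl ((Di i).δ (hF i) n) (Rz gN g hg (lam cT S.X₁) (n + 1) i) y).symm.trans ?_
      refine Eq.trans ?_ (sig_postcomp (cS.π.app i) ξ _ rfl (Rz gN g hg (lam cT S.X₃) n i) (D.δ hL n) y)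
      exact congrArg (fun t => sig (cS.π.app i) ξ _ rfl t y)
        (R_delta (gN.app i) g (cS.π.app i) (cT.π.app i) (hg i) n (hF i) hL φ)
    refine ⟨fun w => ?_, fun i y hy => ?_⟩
    · obtain ⟨w', rfl⟩ := stk_exact (D.exact₁ hL n) ξ w (eq_zero_of_isZero hJ ξ _)
      obtain ⟨i, y, rfl⟩ := (IH S.X₃ Ω ξ).1 w'
      exact ⟨i, _, dz i y⟩
    · obtain ⟨y', rfl⟩ := stk_exact ((Di i).exact₁ (hF i) n) (ξ ≫ cS.π.app i) y (eq_zero_of_isZero (hJi i) _ _)
      have hd : (stk (A := AddCommGrpCat.{u + 1}) ξ).map (D.δ hL n)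
          (sig (cS.π.app i) ξ _ rfl (Rz gN g hg (lam cT S.X₃) n i) y') = 0 := (dz i y').symm.trans hy
      obtain ⟨w, hw⟩ := stk_exact (D.exact₃ hL n) ξ _ hd
      obtain ⟨k₀, x, rfl⟩ := (IH S.X₂ Ω ξ).1 w
      obtain ⟨k, a, b, -⟩ := IsCofilteredOrEmpty.cone_objs i k₀
      let pa := sig (Ss.map a) (ξ ≫ cS.π.app k) (ξ ≫ cS.π.app i) (by rw [Category.assoc, cS.w])
        (Rt gN S.X₃ n a) y'
      let pb := (stk (A := AddCommGrpCat.{u + 1}) (ξ ≫ cS.π.app k)).map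
        ((EtCoh.Rpush (gN.app k) n).map ((fib k).map S.g))
        (sig (Ss.map b) (ξ ≫ cS.π.app k) (ξ ≫ cS.π.app k₀) (by rw [Category.assoc, cS.w]) (Rt gN S.X₂ n b) x)
      have h0 : sig (cS.π.app k) ξ _ rfl (Rz gN g hg (lam cT S.X₃) n k) (pa - pb) = 0 := by
        rw [map_sub, sig_Rz_Rt, sig_Rz_map, sig_Rz_Rt, sub_eq_zero]
        exact hw.symm
      obtain ⟨l, e, he⟩ := (IH S.X₃ Ω ξ).2 k _ h0
      rw [map_sub, sub_eq_zero] at he
      simp only [pa, pb] at he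
      rw [sig_Rt_map, sig_Rt_Rt] at he
      refine ⟨l, e ≫ a, ?_⟩
      let φ : S.map (fib i) ⟶ (S.map (fib l)).map (EtCoh.push (Ts.map (e ≫ a))) :=
        ShortComplex.homMk (trans S.X₁ (e ≫ a)) (trans S.X₂ (e ≫ a)) (trans S.X₃ (e ≫ a))
          (trans_naturality S.f (e ≫ a)).symm (trans_naturality S.g (e ≫ a)).symm
      have dt : sig (Ss.map (e ≫ a)) (ξ ≫ cS.π.app l) (ξ ≫ cS.π.app i) (by rw [Category.assoc, cS.w])
          (Rt gN S.X₁ (n + 1) (e ≫ a))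
          ((stk (A := AddCommGrpCat.{u + 1}) (ξ ≫ cS.π.app i)).map ((Di i).δ (hF i) n) y') =
          (stk (ξ ≫ cS.π.app l)).map ((Di l).δ (hF l) n)
            (sig (Ss.map (e ≫ a)) (ξ ≫ cS.π.app l) (ξ ≫ cS.π.app i) (by rw [Category.assoc, cS.w])
              (Rt gN S.X₃ n (e ≫ a)) y') := by
        refine (sig_precomp (Ss.map (e ≫ a)) (ξ ≫ cS.π.app l) (ξ ≫ cS.π.app i) (by rw [Category.assoc, cS.w])
          ((Di i).δ (hF i) n) (Rt gN S.X₁ (n + 1) (e ≫ a)) y').symm.trans ?_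
        refine Eq.trans ?_ (sig_postcomp (Ss.map (e ≫ a)) (ξ ≫ cS.π.app l) (ξ ≫ cS.π.app i) (by rw [Category.assoc, cS.w])
          (Rt gN S.X₃ n (e ≫ a)) ((Di l).δ (hF l) n) y')
        exact congrArg (fun t => sig (Ss.map (e ≫ a)) (ξ ≫ cS.π.app l) (ξ ≫ cS.π.app i) _ t y')
          (R_delta (gN.app i) (gN.app l) (Ss.map (e ≫ a)) (Ts.map (e ≫ a)) (wa gN (e ≫ a)) n (hF i) (hF l) φ)
      refine (dt.trans (congrArg _ he)).trans ?_
      have ezero : (stk (A := AddCommGrpCat.{u + 1}) (ξ ≫ cS.π.app l)).map (((Di l).F n).map (S.map (fib l)).g) ≫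
          (stk (A := AddCommGrpCat.{u + 1}) (ξ ≫ cS.π.app l)).map ((Di l).δ (hF l) n) = 0 := by
        rw [← Functor.map_comp, (Di l).map_comp_δ (hF l) n, Functor.map_zero]
      exact ConcreteCategory.congr_hom ezero _

end EtBcLimLib
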