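/-
Systems of sheaves with a limit, on stalks; higher direct images of such systems.
-/
import Groth.Agent.EtBcLimLib.Step
import Groth.Agent.EtContLib.Idem
import Groth.Agent.EtContLib.OfSys

set_option autoImplicit false
set_option linter.all false
set_option backward.isDefEq.respectTransparency false
set_option backward.isDefEq.respectTransparency.types false
set_option synthInstance.maxHeartbeats 400000
set_option maxHeartbeats 1600000

universe u

open CategoryTheory CategoryTheory.Limits AlgebraicGeometry Opposite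
open Groth.Agent Groth.Agent.EtShLib DescSecLib EtContLib

noncomputable section

namespace EtBcLimLib

attribute [local instance] EtSliceLib.pullExact

theorem R_pre {T S T' S' : Scheme.{u}} (g : T ⟶ S) (g' : T' ⟶ S') (s : S' ⟶ S) (t : T' ⟶ T) (w : t ≫ g = g' ≫ s)
    (q : ℕ) {F F₁ : EtCoh.Ab T} {F' : EtCoh.Ab T'} (a : F ⟶ F₁) (v : F₁ ⟶ (EtCoh.push t).obj F') :
    (EtCoh.Rpush g q).map a ≫ R g g' s t w q v = R g g' s t w q (a ≫ v) := by
  rw [R_natural g g' s t w q (a ≫ v) v a (𝟙 F') (by rw [CategoryTheory.Functor.map_id, Category.comp_id]),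
    CategoryTheory.Functor.map_id, CategoryTheory.Functor.map_id, Category.comp_id]

theorem R_post {T S T' S' : Scheme.{u}} (g : T ⟶ S) (g' : T' ⟶ S') (s : S' ⟶ S) (t : T' ⟶ T) (w : t ≫ g = g' ≫ s)
    (q : ℕ) {F : EtCoh.Ab T} {F' F'' : EtCoh.Ab T'} (u : F ⟶ (EtCoh.push t).obj F') (b : F' ⟶ F'') :
    R g g' s t w q u ≫ (EtCoh.push s).map ((EtCoh.Rpush g' q).map b) = R g g' s t w q (u ≫ (EtCoh.push t).map b) := by
  rw [← R_natural g g' s t w q u (u ≫ (EtCoh.push t).map b) (𝟙 F) b (Category.id_comp _).symm,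
    CategoryTheory.Functor.map_id, Category.id_comp]

variable {I : Type u} [SmallCategory I] {D : I ⥤ Scheme.{u}}

/-- `G` is the limit of the system `(M, t)` along `v`: on geometric stalks the maps are jointly surjective and
whatever dies in the limit dies at a finite stage. -/
def StkLim {c : Cone D} {M : ∀ i, EtCoh.Ab (D.obj i)} (G : EtCoh.Ab c.pt)
    (t : ∀ {k j : I} (a : k ⟶ j), M j ⟶ (EtCoh.push (D.map a)).obj (M k))
    (v : ∀ i, M i ⟶ (EtCoh.push (c.π.app i)).obj G) : Prop :=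
  ∀ (Ω : Type u) [Field Ω] [IsSepClosed Ω] (ξ : Spec (CommRingCat.of Ω) ⟶ c.pt),
    (∀ z : ToType ((stk (A := AddCommGrpCat.{u + 1}) ξ).obj G),
      ∃ (i : I) (y : ToType ((stk (A := AddCommGrpCat.{u + 1}) (ξ ≫ c.π.app i)).obj (M i))),
        sig (c.π.app i) ξ _ rfl (v i) y = z) ∧
    (∀ (i : I) (y : ToType ((stk (A := AddCommGrpCat.{u + 1}) (ξ ≫ c.π.app i)).obj (M i))),
      sig (c.π.app i) ξ _ rfl (v i) y = 0 →
        ∃ (k : I) (a : k ⟶ i), sig (D.map a) (ξ ≫ c.π.app k) (ξ ≫ c.π.app i) (by rw [Category.assoc, c.w]) (t a) y = 0)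

section Basic

variable {c : Cone D} (R : PreSys D) (G : EtCoh.Ab c.pt) (ψ : ∀ i, R.F i ⟶ (EtCoh.push (c.π.app i)).obj G)
  (hψ : ∀ {k j : I} (a : k ⟶ j), R.τ a ≫ (EtCoh.push (D.map a)).map (ψ k) =
    ψ j ≫ (etPc (c.π.app k) (D.map a) (c.π.app j) (c.w a)).app G)

/-- The map from a stage of the total sheaf. -/
def jm (i : I) : (fib i).obj R.sys.toSheaf ⟶ R.F i := (R.sys.fibIso i).hom ≫ R.inc i

/-- The map to a stage of the total sheaf. -/
def pm (i : I) : R.F i ⟶ (fib i).obj R.sys.toSheaf := R.prj i ≫ (R.sys.fibIso i).inv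

theorem pm_jm (i : I) : pm R i ≫ jm R i = R.eps i := by
  rw [pm, jm, Category.assoc, Iso.inv_hom_id_assoc]
  exact R.prj_inc i

theorem coc_comp (i : I) : (R.coc G ψ hψ).comp i = jm R i ≫ ψ i := by
  refine Sheaf.hom_ext (NatTrans.ext (funext fun V => ?_))
  exact (Category.id_comp _).symm

theorem trans_jm {k j : I} (a : k ⟶ j) :
    trans R.sys.toSheaf a ≫ (EtCoh.push (D.map a)).map (jm R k) = jm R j ≫ R.τ a := by
  rw [jm, Functor.map_comp, ← Category.assoc, R.sys.trans_fibIso a, Category.assoc, jm, Category.assoc]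
  exact congrArg ((R.sys.fibIso j).hom ≫ ·) (R.inc_τ a)

variable [IsCofiltered I]

theorem isLim_of_stkLim (h : StkLim G (fun {k j} a => R.τ a) ψ) : (R.coc G ψ hψ).IsLim := by
  refine ⟨fun Ω _ _ ξ q => ?_, fun Ω _ _ ξ A z s hs => ?_⟩
  · obtain ⟨i, y, rfl⟩ := (h Ω ξ).1 q
    obtain ⟨V, v, s, rfl⟩ := exists_germ (A := AddCommGrpCat.{u + 1}) (ξ ≫ c.π.app i) y
    refine ⟨⟨i, V⟩, liftW (c.π.app i) ξ _ rfl v, (pm R i).hom.app (op V) s, ?_⟩
    rw [germ_sig]
    refine congrArg (germ ξ G ((EtCoh.bc (c.π.app i)).obj V) (liftW (c.π.app i) ξ _ rfl v)) ?_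
    have e : pm R i ≫ (R.coc G ψ hψ).comp i = ψ i := by
      rw [coc_comp, ← Category.assoc, pm_jm, R.eps_ψ G ψ hψ i]
    exact congrArg (fun t : R.F i ⟶ _ => t.hom.app (op V) s) e
  · obtain ⟨i, V⟩ := A
    let s' : ToType ((R.F i).obj.obj (op V)) := (jm R i).hom.app (op V) s
    have hy : sig (c.π.app i) ξ _ rfl (ψ i) (germ (ξ ≫ c.π.app i) (R.F i) V (projFib z) s') = 0 := by
      rw [germ_sig, liftW_projFib z]
      refine Eq.trans ?_ hs
      refine congrArg (germ ξ G ((EtCoh.bc (c.π.app i)).obj V) z) ?_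
      exact (congrArg (fun t : (fib i).obj R.sys.toSheaf ⟶ _ => t.hom.app (op V) s) (coc_comp R G ψ hψ i)).symm
    obtain ⟨k, a, ha⟩ := (h Ω ξ).2 i _ hy
    rw [germ_sig] at ha
    obtain ⟨V', g, v', hv', he⟩ := (germ_eq_iff (A := AddCommGrpCat.{u + 1}) (F := R.F k) (ξ ≫ c.π.app k)
      ((EtCoh.bc (D.map a)).obj V) _ _ 0).1 (ha.trans (map_zero _).symm)
    let A : Obj D := ⟨i, V⟩
    let f : (incl D k).obj V' ⟶ A := (incl D k).map g ≫ cart A a
    refine ⟨(incl D k).obj V', f, liftW (c.π.app k) ξ _ rfl v', ?_, ?_⟩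
    · refine Fib.ext ?_
      show (liftW (c.π.app k) ξ _ rfl v').hom ≫ ((uF c).map f).left = z.hom
      apply pullback.hom_ext
      · rw [Category.assoc]
        erw [uF_map_fst c f]
        refine Eq.trans ((Category.assoc _ _ _).symm.trans (congrArg (· ≫ f.g) (pullback.lift_fst _ _ _))) ?_
        show v'.hom ≫ g.left ≫ pullback.fst V.hom (D.map a) = _
        rw [← Category.assoc]
        exact (congrArg (fun t : Fib (ξ ≫ c.π.app k) ((EtCoh.bc (D.map a)).obj V) =>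
          t.hom ≫ pullback.fst V.hom (D.map a)) hv').trans (pullback.lift_fst _ _ _)
      · exact ((liftW (c.π.app k) ξ _ rfl v').map ((uF c).map f)).w.trans z.w.symm
    · have hj : Function.Injective ((jm R k).hom.app (op V')) := by
        intro x x' hxx
        have e0 : jm R k ≫ pm R k = 𝟙 _ := by
          rw [jm, pm, Category.assoc, ← Category.assoc (R.inc k), R.inc_prj k, Category.id_comp, Iso.hom_inv_id]
        have e1 := congrArg (fun t : (fib k).obj R.sys.toSheaf ⟶ (fib k).obj R.sys.toSheaf => t.hom.app (op V')) e0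
        exact ((ConcreteCategory.congr_hom e1 x).symm.trans
          (congrArg ((pm R k).hom.app (op V')) hxx)).trans (ConcreteCategory.congr_hom e1 x')
      apply hj
      rw [map_zero]
      show (jm R k).hom.app (op V') (R.sys.toSheaf.obj.map f.op s) = 0
      rw [op_comp, Functor.map_comp, ConcreteCategory.comp_apply]
      refine (NatTrans.naturality_apply (jm R k).hom g.op _).trans ?_
      refine (congrArg ((R.F k).obj.map g.op)
        (congrArg (fun t : (fib i).obj R.sys.toSheaf ⟶ (EtCoh.push (D.map a)).obj (R.F k) => t.hom.app (op V) s)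
          (trans_jm R a))).trans ?_
      exact he.trans (map_zero _)

theorem stkLim_of_isLim (h : (R.coc G ψ hψ).IsLim) : StkLim G (fun {k j} a => R.τ a) ψ := by
  intro Ω _ _ ξ
  refine ⟨fun q => ?_, fun i y hy => ?_⟩
  · obtain ⟨⟨i, V⟩, z, s, rfl⟩ := h.gen Ω ξ q
    refine ⟨i, germ (ξ ≫ c.π.app i) (R.F i) V (projFib z) ((jm R i).hom.app (op V) s), ?_⟩
    rw [germ_sig, liftW_projFib z]
    refine congrArg (germ ξ G ((EtCoh.bc (c.π.app i)).obj V) z) ?_
    exact (congrArg (fun t : (fib i).obj R.sys.toSheaf ⟶ _ => t.hom.app (op V) s) (coc_comp R G ψ hψ i)).symm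
  · obtain ⟨V, v, s, rfl⟩ := exists_germ (A := AddCommGrpCat.{u + 1}) (ξ ≫ c.π.app i) y
    let A : Obj D := ⟨i, V⟩
    let s' : R.sys.toSheaf.obj.obj (op A) := (pm R i).hom.app (op V) s
    have e : pm R i ≫ (R.coc G ψ hψ).comp i = ψ i := by
      rw [coc_comp, ← Category.assoc, pm_jm, R.eps_ψ G ψ hψ i]
    have hs : germ ξ G ((uF c).obj A) (liftW (c.π.app i) ξ _ rfl v) ((R.coc G ψ hψ).η.app (op A) s') = 0 := by
      rw [germ_sig] at hy
      refine Eq.trans ?_ hy
      exact congrArg _ (congrArg (fun t : R.F i ⟶ _ => t.hom.app (op V) s) e)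
    obtain ⟨B, f, z', hz', hf⟩ := h.van Ω ξ A _ s' hs
    refine ⟨B.i, f.a, ?_⟩
    rw [germ_sig, ← projFib_map_toBc f z' v hz', ← germ_res_apply]
    have e2 : pm R i ≫ trans R.sys.toSheaf f.a ≫ (EtCoh.push (D.map f.a)).map (jm R B.i) = R.τ f.a := by
      rw [trans_jm, ← Category.assoc, pm_jm, R.eps_τ]
    have key : (R.F B.i).obj.map (toBc f).op ((R.τ f.a).hom.app (op V) s) = 0 := by
      rw [← e2]
      refine (NatTrans.naturality_apply (jm R B.i).hom (toBc f).op
        (((trans R.sys.toSheaf f.a).hom.app (op V)) s')).symm.trans ?_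
      have hf' : ((fib B.i).obj R.sys.toSheaf).obj.map (toBc f).op ((trans R.sys.toSheaf f.a).hom.app (op V) s') = 0 := by
        refine Eq.trans ?_ hf
        show R.sys.toSheaf.obj.map ((incl D B.i).map (toBc f)).op (R.sys.toSheaf.obj.map (cart A f.a).op s') = _
        rw [← ConcreteCategory.comp_apply, ← Functor.map_comp, ← op_comp, toBc_cart]
      exact (congrArg _ hf').trans (map_zero _)
    exact (congrArg _ key).trans (map_zero _)

end Basic

section Rpush

variable [IsCofiltered I]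

variable {Ts Ss : I ⥤ Scheme.{u}} (gN : Ts ⟶ Ss) {cT : Cone Ts} {cS : Cone Ss} (g : cT.pt ⟶ cS.pt)
  (hg : ∀ i, cT.π.app i ≫ gN.app i = g ≫ cS.π.app i) (hcT : IsLimit cT) (hcS : IsLimit cS)
  [∀ (i j : I) (f : i ⟶ j), IsAffineHom (Ts.map f)] [∀ (i j : I) (f : i ⟶ j), IsAffineHom (Ss.map f)]
  [∀ i, CompactSpace (Ts.obj i)] [∀ i, QuasiSeparatedSpace (Ts.obj i)]
  [∀ i, CompactSpace (Ss.obj i)] [∀ i, QuasiSeparatedSpace (Ss.obj i)]
  [∀ i, QuasiCompact (gN.app i)] [∀ i, QuasiSeparated (gN.app i)] [QuasiCompact g] [QuasiSeparated g]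
  (Rs : PreSys Ts) (G : EtCoh.Ab cT.pt) (ψ : ∀ i, Rs.F i ⟶ (EtCoh.push (cT.π.app i)).obj G)
  (hψ : ∀ {k j : I} (a : k ⟶ j), Rs.τ a ≫ (EtCoh.push (Ts.map a)).map (ψ k) =
    ψ j ≫ (etPc (cT.π.app k) (Ts.map a) (cT.π.app j) (cT.w a)).app G)

include hcT hcS hψ in
/-- Higher direct images commute with limits. -/
theorem stkLim_Rpush (q : ℕ) (h : StkLim G (fun {k j} a => Rs.τ a) ψ) :
    StkLim (c := cS) (M := fun i => (EtCoh.Rpush (gN.app i) q).obj (Rs.F i)) ((EtCoh.Rpush g q).obj G)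
      (fun {k j} a => EtBcLimLib.R (gN.app j) (gN.app k) (Ss.map a) (Ts.map a) (wa gN a) q (Rs.τ a))
      (fun i => EtBcLimLib.R (gN.app i) g (cS.π.app i) (cT.π.app i) (hg i) q (ψ i)) := by
  let C := Rs.coc G ψ hψ
  have hC : C.IsLim := isLim_of_stkLim Rs G ψ hψ h
  let P := Rs.sys.toSheaf
  haveI := isIso_lamDesc cT C hC
  intro Ω _ _ ξ
  -- the comparison with the universal extension
  have e1 : ∀ i, Rz gN g hg C q i = Rz gN g hg (lam cT P) q i ≫
      (EtCoh.push (cS.π.app i)).map ((EtCoh.Rpush g q).map (lamDesc cT C)) := fun i => by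
    have hcn := comp_naturality (lam cT P) C (𝟙 P) (lamDesc cT C) (fun A s => (lamDesc_η cT C A s).symm) i
    have hh : C.comp i = (lam cT P).comp i ≫ (EtCoh.push (cT.π.app i)).map (lamDesc cT C) :=
      Eq.trans (by rw [CategoryTheory.Functor.map_id]; exact (Category.id_comp _).symm) hcn
    rw [Rz, hh]
    exact (R_post (gN.app i) g (cS.π.app i) (cT.π.app i) (hg i) q _ _).symm
  have e2 : ∀ i, (EtCoh.Rpush (gN.app i) q).map (jm Rs i) ≫
      EtBcLimLib.R (gN.app i) g (cS.π.app i) (cT.π.app i) (hg i) q (ψ i) = Rz gN g hg C q i := fun i => by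
    rw [R_pre, Rz]
    exact congrArg (EtBcLimLib.R (gN.app i) g (cS.π.app i) (cT.π.app i) (hg i) q) (coc_comp Rs G ψ hψ i).symm
  have hbij : Function.Bijective ((stk (A := AddCommGrpCat.{u + 1}) ξ).map ((EtCoh.Rpush g q).map (lamDesc cT C))) :=
    ConcreteCategory.bijective_of_isIso _
  refine ⟨fun z => ?_, fun i y hy => ?_⟩
  · obtain ⟨z', rfl⟩ := hbij.2 z
    obtain ⟨i, y, rfl⟩ := (rcont gN g hg hcT hcS q P Ω ξ).1 z'
    refine ⟨i, (stk (ξ ≫ cS.π.app i)).map ((EtCoh.Rpush (gN.app i) q).map (jm Rs i)) y, ?_⟩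
    refine (sig_precomp _ _ _ _ _ _ _).symm.trans ?_
    refine (congrArg (fun t => sig (cS.π.app i) ξ _ rfl t y) ((e2 i).trans (e1 i))).trans ?_
    exact sig_postcomp _ _ _ _ _ _ _
  · let y' := (stk (A := AddCommGrpCat.{u + 1}) (ξ ≫ cS.π.app i)).map ((EtCoh.Rpush (gN.app i) q).map (pm Rs i)) y
    have he : (EtCoh.Rpush (gN.app i) q).map (pm Rs i) ≫ Rz gN g hg C q i =
        EtBcLimLib.R (gN.app i) g (cS.π.app i) (cT.π.app i) (hg i) q (ψ i) := by
      rw [← e2, ← Category.assoc, ← Functor.map_comp, pm_jm, R_pre, Rs.eps_ψ G ψ hψ i]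
    have h0 : sig (cS.π.app i) ξ _ rfl (Rz gN g hg (lam cT P) q i) y' = 0 := by
      apply hbij.1
      refine Eq.trans ?_ (map_zero _).symm
      refine (sig_postcomp _ _ _ _ _ _ _).symm.trans ?_
      refine (congrArg (fun t => sig (cS.π.app i) ξ _ rfl t y') (e1 i).symm).trans ?_
      refine (sig_precomp _ _ _ _ _ _ _).symm.trans ?_
      exact (congrArg (fun t => sig (cS.π.app i) ξ _ rfl t y) he).trans hy
    obtain ⟨k, a, ha⟩ := (rcont gN g hg hcT hcS q P Ω ξ).2 i y' h0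
    refine ⟨k, a, ?_⟩
    have e3 : (EtCoh.Rpush (gN.app i) q).map (pm Rs i) ≫ Rt gN P q a ≫
        (EtCoh.push (Ss.map a)).map ((EtCoh.Rpush (gN.app k) q).map (jm Rs k)) =
        EtBcLimLib.R (gN.app i) (gN.app k) (Ss.map a) (Ts.map a) (wa gN a) q (Rs.τ a) := by
      rw [R_post, trans_jm Rs a, ← R_pre, ← Category.assoc, ← Functor.map_comp, pm_jm, R_pre, Rs.eps_τ]
    show sig (Ss.map a) (ξ ≫ cS.π.app k) (ξ ≫ cS.π.app i) _
      (EtBcLimLib.R (gN.app i) (gN.app k) (Ss.map a) (Ts.map a) (wa gN a) q (Rs.τ a)) y = 0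
    rw [← e3, sig_precomp, sig_postcomp, ha, map_zero]

end Rpush

end EtBcLimLib
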