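/-
Inverse images of systems of sheaves; squares of base change morphisms on stalks.
-/
import Groth.Agent.EtBcLimLib.Sys
import Groth.Agent.EtSliceLib.Basic

set_option autoImplicit false
set_option linter.all false
set_option backward.isDefEq.respectTransparency false
set_option backward.isDefEq.respectTransparency.types false
set_option synthInstance.maxHeartbeats 400000
set_option maxHeartbeats 1600000

universe u

open CategoryTheory CategoryTheory.Limits AlgebraicGeometry Opposite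
open Groth.Agent Groth.Agent.EtShLib DescSecLib EtContLib

noncomputable section

namespace EtBcLimLib

attribute [local instance] EtSliceLib.pullExact

theorem adjL_unit {A B : Scheme.{u}} (b : A ⟶ B) (F : EtCoh.Ab B) :
    adjL b ((EtCoh.pullPushAdj b).unit.app F) = 𝟙 _ := by
  rw [← Adjunction.homEquiv_id]
  exact Equiv.symm_apply_apply _ _

section Lift

variable {Y A B T : Scheme.{u}} (p : Y ⟶ A) (b : A ⟶ T) (q : Y ⟶ B) (c : B ⟶ T) (w : p ≫ b = q ≫ c)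
  {F : EtCoh.Ab T} {M : EtCoh.Ab B} {N : EtCoh.Ab Y} (ψ : F ⟶ (EtCoh.push c).obj M) (v : M ⟶ (EtCoh.push q).obj N)

theorem exists_lift : ∃ (γ : (EtCoh.pull b).obj F ⟶ (EtCoh.push p).obj N) (δ : F ⟶ (EtCoh.push (p ≫ b)).obj N),
    (EtCoh.pullPushAdj b).unit.app F ≫ (EtCoh.push b).map γ = δ ≫ (etPc p b (p ≫ b) rfl).app N ∧
      ψ ≫ (EtCoh.push c).map v = δ ≫ (etPc q c (p ≫ b) w.symm).app N := by
  haveI : IsIso ((etSys.c q c (p ≫ b) w.symm).app F) := by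
    rw [← EtSliceLib.pullComp_inv_eq q c (p ≫ b) w.symm F]; infer_instance
  let dl : (EtCoh.pull (p ≫ b)).obj F ⟶ N :=
    inv ((etSys.c q c (p ≫ b) w.symm).app F) ≫ (EtCoh.pull q).map (adjL c ψ) ≫ adjL q v
  let δ : F ⟶ (EtCoh.push (p ≫ b)).obj N := (EtCoh.pullPushAdj (p ≫ b)).homEquiv _ _ dl
  let γl : (EtCoh.pull p).obj ((EtCoh.pull b).obj F) ⟶ N := (etSys.c p b (p ≫ b) rfl).app F ≫ dl
  let γ : (EtCoh.pull b).obj F ⟶ (EtCoh.push p).obj N := (EtCoh.pullPushAdj p).homEquiv _ _ γl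
  have hd : adjL (p ≫ b) δ = dl := Equiv.symm_apply_apply _ _
  have hγ : adjL p γ = γl := Equiv.symm_apply_apply _ _
  refine ⟨γ, δ, EtContLib.adjL_comp p b (p ≫ b) rfl _ γ δ ?_, EtContLib.adjL_comp q c (p ≫ b) w.symm ψ v δ ?_⟩
  · rw [adjL_unit, hd, hγ]
    exact (congrArg (· ≫ γl) ((EtCoh.pull p).map_id _)).trans (Category.id_comp _)
  · rw [hd]
    exact (IsIso.hom_inv_id_assoc _ _).symm

/-- The map out of an inverse image given by a square. -/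
def lift : (EtCoh.pull b).obj F ⟶ (EtCoh.push p).obj N := (exists_lift p b q c w ψ v).choose

theorem lift_spec : ∃ δ : F ⟶ (EtCoh.push (p ≫ b)).obj N,
    (EtCoh.pullPushAdj b).unit.app F ≫ (EtCoh.push b).map (lift p b q c w ψ v) =
        δ ≫ (etPc p b (p ≫ b) rfl).app N ∧
      ψ ≫ (EtCoh.push c).map v = δ ≫ (etPc q c (p ≫ b) w.symm).app N :=
  (exists_lift p b q c w ψ v).choose_spec

theorem sig_lift {Ω : Type u} [Field Ω] [IsSepClosed Ω] (ξ : Spec (CommRingCat.of Ω) ⟶ Y)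
    (ηp : Spec (CommRingCat.of Ω) ⟶ A) (ηq : Spec (CommRingCat.of Ω) ⟶ B) (ζ : Spec (CommRingCat.of Ω) ⟶ T)
    (wp : ξ ≫ p = ηp) (wq : ξ ≫ q = ηq) (wb : ηp ≫ b = ζ) (wc : ηq ≫ c = ζ)
    (y : ToType ((stk (A := AddCommGrpCat.{u + 1}) ζ).obj F)) :
    sig p ξ ηp wp (lift p b q c w ψ v) (sig b ηp ζ wb ((EtCoh.pullPushAdj b).unit.app F) y) =
      sig q ξ ηq wq v (sig c ηq ζ wc ψ y) := by
  obtain ⟨δ, h1, h2⟩ := lift_spec p b q c w ψ v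
  exact (sig_comp p b (p ≫ b) rfl ξ ηp ζ wp wb (by rw [← Category.assoc, wp, wb]) _ _ δ h1 y).trans
    (sig_comp q c (p ≫ b) w.symm ξ ηq ζ wq wc (by rw [← Category.assoc, wp, wb]) _ _ δ h2 y).symm

variable {Sd Sb Sc S : Scheme.{u}} (g0 : T ⟶ S) (gb : A ⟶ Sb) (gc : B ⟶ Sc) (gd : Y ⟶ Sd)
  (sp : Sd ⟶ Sb) (sb : Sb ⟶ S) (sq : Sd ⟶ Sc) (sc : Sc ⟶ S) (ws : sp ≫ sb = sq ≫ sc)
  (w1 : b ≫ g0 = gb ≫ sb) (w2 : p ≫ gb = gd ≫ sp) (w3 : c ≫ g0 = gc ≫ sc) (w4 : q ≫ gc = gd ≫ sq)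

include ws in
theorem sig_R_lift (n : ℕ) {Ω : Type u} [Field Ω] [IsSepClosed Ω] (ξ : Spec (CommRingCat.of Ω) ⟶ Sd)
    (ηp : Spec (CommRingCat.of Ω) ⟶ Sb) (ηq : Spec (CommRingCat.of Ω) ⟶ Sc) (ζ : Spec (CommRingCat.of Ω) ⟶ S)
    (wp : ξ ≫ sp = ηp) (wq : ξ ≫ sq = ηq) (wb : ηp ≫ sb = ζ) (wc : ηq ≫ sc = ζ)
    (y : ToType ((stk (A := AddCommGrpCat.{u + 1}) ζ).obj ((EtCoh.Rpush g0 n).obj F))) :
    sig sp ξ ηp wp (R gb gd sp p w2 n (lift p b q c w ψ v))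
        (sig sb ηp ζ wb (R g0 gb sb b w1 n ((EtCoh.pullPushAdj b).unit.app F)) y) =
      sig sq ξ ηq wq (R gc gd sq q w4 n v) (sig sc ηq ζ wc (R g0 gc sc c w3 n ψ) y) := by
  obtain ⟨δ, h1, h2⟩ := lift_spec p b q c w ψ v
  have w5 : (p ≫ b) ≫ g0 = gd ≫ sp ≫ sb := by rw [Category.assoc, w1, ← Category.assoc, w2, Category.assoc]
  refine (sig_comp sp sb (sp ≫ sb) rfl ξ ηp ζ wp wb (by rw [← Category.assoc, wp, wb]) _ _ _
      (R_comp g0 gb sb b w1 gd sp p w2 (sp ≫ sb) (p ≫ b) w5 rfl rfl n _ _ δ h1) y).trans ?_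
  exact (sig_comp sq sc (sp ≫ sb) ws.symm ξ ηq ζ wq wc (by rw [← Category.assoc, wp, wb]) _ _ _
      (R_comp g0 gc sc c w3 gd sq q w4 (sp ≫ sb) (p ≫ b) w5 ws.symm w.symm n _ _ δ h2) y).symm

end Lift

theorem bijective_sig_unit {A B : Scheme.{u}} (b : A ⟶ B) (F : EtCoh.Ab B) {Ω : Type u} [Field Ω] [IsSepClosed Ω]
    (ξ : Spec (CommRingCat.of Ω) ⟶ A) (η : Spec (CommRingCat.of Ω) ⟶ B) (w : ξ ≫ b = η) :
    Function.Bijective (sig b ξ η w ((EtCoh.pullPushAdj b).unit.app F)) := by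
  haveI : IsIso (adjL b ((EtCoh.pullPushAdj b).unit.app F)) := by rw [adjL_unit]; infer_instance
  exact bijective_sig _ _ _ _ _

/-- Composites are determined on stalks. -/
theorem comp_ext_of_sig {A B C : Scheme.{u}} (a : A ⟶ B) (b : B ⟶ C) (c : A ⟶ C) (hc : a ≫ b = c)
    {F : EtCoh.Ab C} {M : EtCoh.Ab B} {N : EtCoh.Ab A}
    (β : F ⟶ (EtCoh.push b).obj M) (γ : M ⟶ (EtCoh.push a).obj N) (δ : F ⟶ (EtCoh.push c).obj N)
    (h : ∀ (Ω : Type u) [Field Ω] [IsSepClosed Ω] (ξ : Spec (CommRingCat.of Ω) ⟶ A)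
      (y : ToType ((stk (A := AddCommGrpCat.{u + 1}) ((ξ ≫ a) ≫ b)).obj F)),
      sig a ξ _ rfl γ (sig b (ξ ≫ a) _ rfl β y) =
        sig c ξ ((ξ ≫ a) ≫ b) (by rw [Category.assoc, hc]) δ y) :
    β ≫ (EtCoh.push b).map γ = δ ≫ (etPc a b c hc).app N := by
  refine Sheaf.hom_ext (NatTrans.ext (funext fun V => ?_))
  ext s
  refine eq_of_germ (A := AddCommGrpCat.{u + 1}) N _ _ fun Ω _ _ ξ u => ?_
  let v₁ : Fib (ξ ≫ a) ((EtCoh.bc b).obj V.unop) :=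
    Fib.proj a ξ (U := (EtCoh.bc b).obj V.unop) u
  let v : Fib ((ξ ≫ a) ≫ b) V.unop := Fib.proj b (ξ ≫ a) (U := V.unop) v₁
  have e1 : liftW b (ξ ≫ a) ((ξ ≫ a) ≫ b) rfl v = v₁ := by
    refine Fib.ext ?_
    apply pullback.hom_ext
    · exact pullback.lift_fst _ _ _
    · exact (pullback.lift_snd _ _ _).trans v₁.w.symm
  have e2 : liftW a ξ (ξ ≫ a) rfl v₁ = u := by
    refine Fib.ext ?_
    apply pullback.hom_ext
    · exact pullback.lift_fst _ _ _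
    · exact (pullback.lift_snd _ _ _).trans u.w.symm
  have key := h Ω ξ (germ ((ξ ≫ a) ≫ b) F V.unop v s)
  rw [germ_sig, germ_sig, germ_sig, e1, e2] at key
  refine key.trans ?_
  show _ = germ ξ N _ u (N.obj.map (bcCompHom a b c hc V.unop).op (δ.hom.app V s))
  refine Eq.trans ?_ (germ_res_apply ξ N (bcCompHom a b c hc V.unop) u _).symm
  refine congrArg (fun t => germ ξ N ((EtCoh.bc c).obj V.unop) t (δ.hom.app (op V.unop) s)) (Fib.ext ?_)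
  rw [Fib.map_hom]
  apply pullback.hom_ext
  · refine (pullback.lift_fst _ _ _).trans (Eq.trans ?_ (Category.assoc _ _ _).symm)
    erw [DescSecLib.bcCompHom_fst a b c hc V.unop]
    exact Category.assoc _ _ _
  · refine (pullback.lift_snd _ _ _).trans (u.map (bcCompHom a b c hc V.unop)).w.symm

section Pulled

variable {I : Type u} [SmallCategory I] {Ts Ys : I ⥤ Scheme.{u}} (eN : Ys ⟶ Ts) {cT : Cone Ts} {cY : Cone Ys}
  (e : cY.pt ⟶ cT.pt) (he : ∀ i, cY.π.app i ≫ eN.app i = e ≫ cT.π.app i) (Rs : PreSys Ts)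

/-- The transition maps of the inverse image of a system. -/
def τp {k j : I} (a : k ⟶ j) : (EtCoh.pull (eN.app j)).obj (Rs.F j) ⟶
    (EtCoh.push (Ys.map a)).obj ((EtCoh.pull (eN.app k)).obj (Rs.F k)) :=
  lift (Ys.map a) (eN.app j) (eN.app k) (Ts.map a) (eN.naturality a) (Rs.τ a)
    ((EtCoh.pullPushAdj (eN.app k)).unit.app (Rs.F k))

theorem sig_τp {k j : I} (a : k ⟶ j) {Ω : Type u} [Field Ω] [IsSepClosed Ω]
    (ξ : Spec (CommRingCat.of Ω) ⟶ Ys.obj k) (η : Spec (CommRingCat.of Ω) ⟶ Ys.obj j)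
    (θ : Spec (CommRingCat.of Ω) ⟶ Ts.obj k) (ζ : Spec (CommRingCat.of Ω) ⟶ Ts.obj j)
    (wp : ξ ≫ Ys.map a = η) (wq : ξ ≫ eN.app k = θ) (wb : η ≫ eN.app j = ζ) (wc : θ ≫ Ts.map a = ζ)
    (y : ToType ((stk (A := AddCommGrpCat.{u + 1}) ζ).obj (Rs.F j))) :
    sig (Ys.map a) ξ η wp (τp eN Rs a) (sig (eN.app j) η ζ wb ((EtCoh.pullPushAdj (eN.app j)).unit.app _) y) =
      sig (eN.app k) ξ θ wq ((EtCoh.pullPushAdj (eN.app k)).unit.app _) (sig (Ts.map a) θ ζ wc (Rs.τ a) y) :=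
  sig_lift _ _ _ _ (eN.naturality a) _ _ ξ η θ ζ wp wq wb wc y

/-- The inverse image of a system. -/
def pullSys : PreSys Ys where
  F i := (EtCoh.pull (eN.app i)).obj (Rs.F i)
  τ a := τp eN Rs a
  comp := fun {l k j} e a b hb => by
    refine comp_ext_of_sig _ _ _ _ _ _ _ fun Ω _ _ ξ y => ?_
    obtain ⟨x, rfl⟩ := (bijective_sig_unit (eN.app j) (Rs.F j) _ (((ξ ≫ Ys.map e) ≫ Ys.map a) ≫ eN.app j) rfl).2 y
    have w1 : ((ξ ≫ eN.app l) ≫ Ts.map e) ≫ Ts.map a = ((ξ ≫ Ys.map e) ≫ Ys.map a) ≫ eN.app j := by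
      simp only [Category.assoc, NatTrans.naturality, NatTrans.naturality_assoc]
    have w2 : (ξ ≫ Ys.map e) ≫ eN.app k = (ξ ≫ eN.app l) ≫ Ts.map e := by
      simp only [Category.assoc, NatTrans.naturality]
    have hY : ξ ≫ Ys.map b = (ξ ≫ Ys.map e) ≫ Ys.map a := by rw [← hb, Ys.map_comp, Category.assoc]
    rw [sig_τp eN Rs a (ξ ≫ Ys.map e) _ ((ξ ≫ eN.app l) ≫ Ts.map e) _ rfl w2 rfl w1,
      sig_τp eN Rs e ξ _ (ξ ≫ eN.app l) _ rfl rfl w2 rfl,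
      sig_τp eN Rs b ξ _ (ξ ≫ eN.app l) _ hY rfl rfl (by rw [← w1, ← hb, Ts.map_comp]; simp only [Category.assoc])]
    refine congrArg _ ?_
    exact sig_comp _ _ _ _ (ξ ≫ eN.app l) _ _ rfl w1 _ _ _ _ (Rs.comp e a b hb) x

variable (G : EtCoh.Ab cT.pt) (ψ : ∀ i, Rs.F i ⟶ (EtCoh.push (cT.π.app i)).obj G)

/-- The maps to the inverse image of the limit. -/
def ψp (i : I) : (EtCoh.pull (eN.app i)).obj (Rs.F i) ⟶
    (EtCoh.push (cY.π.app i)).obj ((EtCoh.pull e).obj G) :=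
  lift (cY.π.app i) (eN.app i) e (cT.π.app i) (he i) (ψ i) ((EtCoh.pullPushAdj e).unit.app G)

theorem sig_ψp (i : I) {Ω : Type u} [Field Ω] [IsSepClosed Ω]
    (ξ : Spec (CommRingCat.of Ω) ⟶ cY.pt) (η : Spec (CommRingCat.of Ω) ⟶ Ys.obj i)
    (θ : Spec (CommRingCat.of Ω) ⟶ cT.pt) (ζ : Spec (CommRingCat.of Ω) ⟶ Ts.obj i)
    (wp : ξ ≫ cY.π.app i = η) (wq : ξ ≫ e = θ) (wb : η ≫ eN.app i = ζ) (wc : θ ≫ cT.π.app i = ζ)
    (y : ToType ((stk (A := AddCommGrpCat.{u + 1}) ζ).obj (Rs.F i))) :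
    sig (cY.π.app i) ξ η wp (ψp eN e he Rs G ψ i)
        (sig (eN.app i) η ζ wb ((EtCoh.pullPushAdj (eN.app i)).unit.app _) y) =
      sig e ξ θ wq ((EtCoh.pullPushAdj e).unit.app G) (sig (cT.π.app i) θ ζ wc (ψ i) y) :=
  sig_lift _ _ _ _ (he i) _ _ ξ η θ ζ wp wq wb wc y

variable (hψ : ∀ {k j : I} (a : k ⟶ j), Rs.τ a ≫ (EtCoh.push (Ts.map a)).map (ψ k) =
    ψ j ≫ (etPc (cT.π.app k) (Ts.map a) (cT.π.app j) (cT.w a)).app G)

include hψ in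
theorem ψp_compat {k j : I} (a : k ⟶ j) :
    (pullSys eN Rs).τ a ≫ (EtCoh.push (Ys.map a)).map (ψp eN e he Rs G ψ k) =
      ψp eN e he Rs G ψ j ≫ (etPc (cY.π.app k) (Ys.map a) (cY.π.app j) (cY.w a)).app _ := by
  refine comp_ext_of_sig _ _ _ _ _ _ _ fun Ω _ _ ξ y => ?_
  obtain ⟨x, rfl⟩ := (bijective_sig_unit (eN.app j) (Rs.F j) _ (((ξ ≫ cY.π.app k) ≫ Ys.map a) ≫ eN.app j) rfl).2 y
  have w2 : (ξ ≫ cY.π.app k) ≫ eN.app k = (ξ ≫ e) ≫ cT.π.app k := by simp only [Category.assoc, he]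
  have w1 : ((ξ ≫ e) ≫ cT.π.app k) ≫ Ts.map a = ((ξ ≫ cY.π.app k) ≫ Ys.map a) ≫ eN.app j := by
    rw [← w2]
    simp only [Category.assoc, NatTrans.naturality]
  have hY : ξ ≫ cY.π.app j = (ξ ≫ cY.π.app k) ≫ Ys.map a := by rw [Category.assoc, cY.w]
  have w3 : (ξ ≫ e) ≫ cT.π.app j = ((ξ ≫ cY.π.app k) ≫ Ys.map a) ≫ eN.app j := by
    rw [← w1, Category.assoc, Category.assoc, Category.assoc, cT.w]
  show sig _ _ _ _ (ψp eN e he Rs G ψ k) (sig _ _ _ _ (τp eN Rs a) _) = _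
  refine (congrArg _ (sig_τp eN Rs a (ξ ≫ cY.π.app k) _ ((ξ ≫ e) ≫ cT.π.app k) _ rfl w2 rfl w1 x)).trans ?_
  refine (sig_ψp eN e he Rs G ψ k ξ _ (ξ ≫ e) _ rfl rfl w2 rfl _).trans ?_
  refine Eq.trans ?_ (sig_ψp eN e he Rs G ψ j ξ _ (ξ ≫ e) _ hY rfl rfl w3 x).symm
  refine congrArg _ ?_
  exact sig_comp _ _ _ _ (ξ ≫ e) _ _ rfl w1 _ _ _ _ (hψ a) x

theorem stkLim_pull [IsCofiltered I] (h : StkLim G (fun {k j} a => Rs.τ a) ψ) :
    StkLim ((EtCoh.pull e).obj G) (fun {k j} a => (pullSys eN Rs).τ a) (ψp eN e he Rs G ψ) := by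
  intro Ω _ _ ξ
  have w : ∀ i, (ξ ≫ cY.π.app i) ≫ eN.app i = (ξ ≫ e) ≫ cT.π.app i := fun i => by
    simp only [Category.assoc, he]
  refine ⟨fun z => ?_, fun i y hy => ?_⟩
  · obtain ⟨z₀, rfl⟩ := (bijective_sig_unit e G ξ (ξ ≫ e) rfl).2 z
    obtain ⟨i, x, rfl⟩ := (h Ω (ξ ≫ e)).1 z₀
    exact ⟨i, _, sig_ψp eN e he Rs G ψ i ξ _ (ξ ≫ e) _ rfl rfl (w i) rfl x⟩
  · obtain ⟨x, rfl⟩ := (bijective_sig_unit (eN.app i) (Rs.F i) (ξ ≫ cY.π.app i) ((ξ ≫ e) ≫ cT.π.app i) (w i)).2 y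
    replace hy := (sig_ψp eN e he Rs G ψ i ξ _ (ξ ≫ e) _ rfl rfl (w i) rfl x).symm.trans hy
    obtain ⟨k, a, ha⟩ := (h Ω (ξ ≫ e)).2 i x
      ((bijective_sig_unit e G ξ (ξ ≫ e) rfl).1 (hy.trans (map_zero _).symm))
    refine ⟨k, a, ?_⟩
    show sig _ _ _ _ (τp eN Rs a) _ = 0
    refine (sig_τp eN Rs a _ _ ((ξ ≫ e) ≫ cT.π.app k) _ (by rw [Category.assoc, cY.w]) (w k) (w i)
      (by rw [Category.assoc, cT.w]) x).trans ?_
    exact (congrArg _ ha).trans (map_zero _)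

end Pulled

end EtBcLimLib
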