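/-
Higher direct images commute with limits of arbitrary schemes along affine transition maps; base change
morphisms at the limit.
-/
import Groth.Agent.EtBcLimLib.Square
import Groth.Agent.EtBcQLib.Etale
import Groth.Agent.RichLib.LimitBaseChange

set_option autoImplicit false
set_option linter.all false
set_option backward.isDefEq.respectTransparency false
set_option backward.isDefEq.respectTransparency.types false
set_option synthInstance.maxHeartbeats 400000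
set_option maxHeartbeats 1600000

universe u

open CategoryTheory CategoryTheory.Limits AlgebraicGeometry Opposite
open Groth.Agent Groth.Agent.EtShLib DescSecLib EtContLib

noncomputable section

namespace EtBcLimLib

attribute [local instance] EtSliceLib.pullExact

section Squares

variable {I : Type u} [SmallCategory I] {Xs Ss Ts Ys : I ⥤ Scheme.{u}} (fN : Xs ⟶ Ss) (gN : Ts ⟶ Ss) (hN : Ys ⟶ Xs)
  (eN : Ys ⟶ Ts) (sq : ∀ i, eN.app i ≫ gN.app i = hN.app i ≫ fN.app i)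
  {cX : Cone Xs} {cS : Cone Ss} {cT : Cone Ts} {cY : Cone Ys}
  (f : cX.pt ⟶ cS.pt) (g : cT.pt ⟶ cS.pt) (h : cY.pt ⟶ cX.pt) (e : cY.pt ⟶ cT.pt)
  (hf : ∀ i, cX.π.app i ≫ fN.app i = f ≫ cS.π.app i) (hg : ∀ i, cT.π.app i ≫ gN.app i = g ≫ cS.π.app i)
  (hh : ∀ i, cY.π.app i ≫ hN.app i = h ≫ cX.π.app i) (he : ∀ i, cY.π.app i ≫ eN.app i = e ≫ cT.π.app i)
  (w : e ≫ g = h ≫ f)
  (Rs : PreSys Ts) (G : EtCoh.Ab cT.pt) (ψ : ∀ i, Rs.F i ⟶ (EtCoh.push (cT.π.app i)).obj G) (q : ℕ)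

/-- The base change maps at the stages are bijective on stalks. -/
def StageBij : Prop :=
  ∀ (i : I) (Ω : Type u) [Field Ω] [IsSepClosed Ω] (η : Spec (CommRingCat.of Ω) ⟶ Xs.obj i)
    (ζ : Spec (CommRingCat.of Ω) ⟶ Ss.obj i) (hw : η ≫ fN.app i = ζ),
    Function.Bijective (sig (fN.app i) η ζ hw
      (R (gN.app i) (hN.app i) (fN.app i) (eN.app i) (sq i) q ((EtCoh.pullPushAdj (eN.app i)).unit.app (Rs.F i))))

theorem stageBij_of_isIso (H : ∀ i, IsIso (EtBC.bcQ (gN.app i) (fN.app i) (hN.app i) (eN.app i) (sq i) q (Rs.F i))) :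
    StageBij fN gN hN eN sq Rs q := fun i Ω _ _ η ζ hw => by
  haveI : IsIso (adjL (fN.app i) (R (gN.app i) (hN.app i) (fN.app i) (eN.app i) (sq i) q
      ((EtCoh.pullPushAdj (eN.app i)).unit.app (Rs.F i)))) := by rw [adjL_R_unit]; exact H i
  exact bijective_sig _ _ _ _ _

variable {Ω : Type u} [Field Ω] [IsSepClosed Ω]

/-- Gen and van at one point. -/
def GenVan (η : Spec (CommRingCat.of Ω) ⟶ cS.pt) : Prop :=
  (∀ z : ToType ((stk (A := AddCommGrpCat.{u + 1}) η).obj ((EtCoh.Rpush g q).obj G)),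
    ∃ (i : I) (y : ToType ((stk (A := AddCommGrpCat.{u + 1}) (η ≫ cS.π.app i)).obj
      ((EtCoh.Rpush (gN.app i) q).obj (Rs.F i)))),
      sig (cS.π.app i) η _ rfl (R (gN.app i) g (cS.π.app i) (cT.π.app i) (hg i) q (ψ i)) y = z) ∧
  (∀ (i : I) (y : ToType ((stk (A := AddCommGrpCat.{u + 1}) (η ≫ cS.π.app i)).obj
      ((EtCoh.Rpush (gN.app i) q).obj (Rs.F i)))),
    sig (cS.π.app i) η _ rfl (R (gN.app i) g (cS.π.app i) (cT.π.app i) (hg i) q (ψ i)) y = 0 →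
      ∃ (k : I) (a : k ⟶ i), sig (Ss.map a) (η ≫ cS.π.app k) (η ≫ cS.π.app i) (by rw [Category.assoc, cS.w])
        (R (gN.app i) (gN.app k) (Ss.map a) (Ts.map a) (wa gN a) q (Rs.τ a)) y = 0)

/-- The base change map at the limit. -/
abbrev Abc (ξ : Spec (CommRingCat.of Ω) ⟶ cX.pt) :=
  sig f ξ (ξ ≫ f) rfl (R g h f e w q ((EtCoh.pullPushAdj e).unit.app G))

/-- The base change map at a stage. -/
abbrev Sbc (ξ : Spec (CommRingCat.of Ω) ⟶ cX.pt) (i : I) :=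
  sig (fN.app i) (ξ ≫ cX.π.app i) ((ξ ≫ f) ≫ cS.π.app i) (by rw [Category.assoc, Category.assoc, hf])
    (R (gN.app i) (hN.app i) (fN.app i) (eN.app i) (sq i) q ((EtCoh.pullPushAdj (eN.app i)).unit.app (Rs.F i)))

include hf in
theorem comm_lim (ξ : Spec (CommRingCat.of Ω) ⟶ cX.pt) (i : I)
    (y : ToType ((stk (A := AddCommGrpCat.{u + 1}) ((ξ ≫ f) ≫ cS.π.app i)).obj
      ((EtCoh.Rpush (gN.app i) q).obj (Rs.F i)))) :
    Abc f g h e w G q ξ (sig (cS.π.app i) (ξ ≫ f) _ rfl (R (gN.app i) g (cS.π.app i) (cT.π.app i) (hg i) q (ψ i)) y) =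
      sig (cX.π.app i) ξ _ rfl (R (hN.app i) h (cX.π.app i) (cY.π.app i) (hh i) q (ψp eN e he Rs G ψ i))
        (Sbc fN gN hN eN sq f hf Rs q ξ i y) :=
  (sig_R_lift (cY.π.app i) (eN.app i) e (cT.π.app i) (he i) (ψ i) ((EtCoh.pullPushAdj e).unit.app G)
    (gN.app i) (hN.app i) g h (cX.π.app i) (fN.app i) f (cS.π.app i) (hf i) (sq i) (hh i) (hg i) w q
    ξ (ξ ≫ cX.π.app i) (ξ ≫ f) ((ξ ≫ f) ≫ cS.π.app i) rfl rfl (by rw [Category.assoc, Category.assoc, hf]) rfl y).symm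

include hf in
theorem comm_tr (ξ : Spec (CommRingCat.of Ω) ⟶ cX.pt) {k i : I} (a : k ⟶ i)
    (y : ToType ((stk (A := AddCommGrpCat.{u + 1}) ((ξ ≫ f) ≫ cS.π.app i)).obj
      ((EtCoh.Rpush (gN.app i) q).obj (Rs.F i)))) :
    sig (Xs.map a) (ξ ≫ cX.π.app k) (ξ ≫ cX.π.app i) (by rw [Category.assoc, cX.w])
        (R (hN.app i) (hN.app k) (Xs.map a) (Ys.map a) (wa hN a) q ((pullSys eN Rs).τ a))
        (Sbc fN gN hN eN sq f hf Rs q ξ i y) =
      Sbc fN gN hN eN sq f hf Rs q ξ k (sig (Ss.map a) ((ξ ≫ f) ≫ cS.π.app k) ((ξ ≫ f) ≫ cS.π.app i)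
        (by rw [Category.assoc, cS.w]) (R (gN.app i) (gN.app k) (Ss.map a) (Ts.map a) (wa gN a) q (Rs.τ a)) y) :=
  sig_R_lift (Ys.map a) (eN.app i) (eN.app k) (Ts.map a) (eN.naturality a) (Rs.τ a)
    ((EtCoh.pullPushAdj (eN.app k)).unit.app (Rs.F k))
    (gN.app i) (hN.app i) (gN.app k) (hN.app k) (Xs.map a) (fN.app i) (fN.app k) (Ss.map a) (fN.naturality a)
    (sq i) (wa hN a) (wa gN a) (sq k) q
    (ξ ≫ cX.π.app k) (ξ ≫ cX.π.app i) ((ξ ≫ f) ≫ cS.π.app k) ((ξ ≫ f) ≫ cS.π.app i)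
    (by rw [Category.assoc, cX.w]) (by rw [Category.assoc, Category.assoc, hf])
    (by rw [Category.assoc, Category.assoc, hf]) (by rw [Category.assoc, cS.w]) y

include hf hh in
theorem genVan_of_pull (ξ : Spec (CommRingCat.of Ω) ⟶ cX.pt) (hst : StageBij fN gN hN eN sq Rs q)
    (hA : Function.Bijective (Abc f g h e w G q ξ))
    (H : GenVan hN h hh (pullSys eN Rs) ((EtCoh.pull e).obj G) (ψp eN e he Rs G ψ) q ξ) :
    GenVan gN g hg Rs G ψ q (ξ ≫ f) := by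
  refine ⟨fun z => ?_, fun i y hy => ?_⟩
  · obtain ⟨i, y', hy'⟩ := H.1 (Abc f g h e w G q ξ z)
    obtain ⟨y, rfl⟩ := (hst i Ω (ξ ≫ cX.π.app i) ((ξ ≫ f) ≫ cS.π.app i)
      (by rw [Category.assoc, Category.assoc, hf])).2 y'
    exact ⟨i, y, hA.1 ((comm_lim fN gN hN eN sq f g h e hf hg hh he w Rs G ψ q ξ i y).trans hy')⟩
  · obtain ⟨k, a, ha⟩ := H.2 i (Sbc fN gN hN eN sq f hf Rs q ξ i y)
      ((comm_lim fN gN hN eN sq f g h e hf hg hh he w Rs G ψ q ξ i y).symm.trans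
        ((congrArg _ hy).trans (map_zero _)))
    refine ⟨k, a, (hst k Ω (ξ ≫ cX.π.app k) ((ξ ≫ f) ≫ cS.π.app k) (by rw [Category.assoc, Category.assoc, hf])).1 ?_⟩
    exact ((comm_tr fN gN hN eN sq f hf Rs q ξ a y).symm.trans ha).trans (map_zero _).symm

variable (hψ : ∀ {k j : I} (a : k ⟶ j), Rs.τ a ≫ (EtCoh.push (Ts.map a)).map (ψ k) =
    ψ j ≫ (etPc (cT.π.app k) (Ts.map a) (cT.π.app j) (cT.w a)).app G)

include hψ in
theorem sig_lim_tr (η : Spec (CommRingCat.of Ω) ⟶ cS.pt) {k i : I} (a : k ⟶ i)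
    (y : ToType ((stk (A := AddCommGrpCat.{u + 1}) (η ≫ cS.π.app i)).obj
      ((EtCoh.Rpush (gN.app i) q).obj (Rs.F i)))) :
    sig (cS.π.app k) η _ rfl (R (gN.app k) g (cS.π.app k) (cT.π.app k) (hg k) q (ψ k))
        (sig (Ss.map a) (η ≫ cS.π.app k) (η ≫ cS.π.app i) (by rw [Category.assoc, cS.w])
          (R (gN.app i) (gN.app k) (Ss.map a) (Ts.map a) (wa gN a) q (Rs.τ a)) y) =
      sig (cS.π.app i) η _ rfl (R (gN.app i) g (cS.π.app i) (cT.π.app i) (hg i) q (ψ i)) y :=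
  sig_comp _ _ _ (cS.w a) η _ _ rfl _ rfl _ _ _
    (R_comp (gN.app i) (gN.app k) (Ss.map a) (Ts.map a) (wa gN a) g (cS.π.app k) (cT.π.app k) (hg k)
      (cS.π.app i) (cT.π.app i) (hg i) (cS.w a) (cT.w a) q (Rs.τ a) (ψ k) (ψ i) (hψ a)) y

include hf hh hψ in
theorem bijective_Abc (ξ : Spec (CommRingCat.of Ω) ⟶ cX.pt) (hst : StageBij fN gN hN eN sq Rs q)
    (HS : GenVan gN g hg Rs G ψ q (ξ ≫ f))
    (HX : GenVan hN h hh (pullSys eN Rs) ((EtCoh.pull e).obj G) (ψp eN e he Rs G ψ) q ξ) :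
    Function.Bijective (Abc f g h e w G q ξ) := by
  refine ⟨(injective_iff_map_eq_zero (Abc f g h e w G q ξ).hom).2 fun z hz => ?_, fun z' => ?_⟩
  · obtain ⟨i, y, rfl⟩ := HS.1 z
    obtain ⟨k, a, ha⟩ := HX.2 i (Sbc fN gN hN eN sq f hf Rs q ξ i y)
      ((comm_lim fN gN hN eN sq f g h e hf hg hh he w Rs G ψ q ξ i y).symm.trans hz)
    have h0 := (hst k Ω (ξ ≫ cX.π.app k) ((ξ ≫ f) ≫ cS.π.app k) (by rw [Category.assoc, Category.assoc, hf])).1
      (((comm_tr fN gN hN eN sq f hf Rs q ξ a y).symm.trans ha).trans (map_zero _).symm)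
    exact (sig_lim_tr gN g hg Rs G ψ q hψ (ξ ≫ f) a y).symm.trans ((congrArg _ h0).trans (map_zero _))
  · obtain ⟨i, y', rfl⟩ := HX.1 z'
    obtain ⟨y, rfl⟩ := (hst i Ω (ξ ≫ cX.π.app i) ((ξ ≫ f) ≫ cS.π.app i)
      (by rw [Category.assoc, Category.assoc, hf])).2 y'
    exact ⟨_, comm_lim fN gN hN eN sq f g h e hf hg hh he w Rs G ψ q ξ i y⟩

end Squares

theorem bijective_sig_bcQ {T S T' S' : Scheme.{u}} (g : T ⟶ S) (g' : T' ⟶ S') (s : S' ⟶ S) (t : T' ⟶ T)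
    (w : t ≫ g = g' ≫ s) (q : ℕ) (F : EtCoh.Ab T) (h : IsIso (EtBC.bcQ g s g' t w q F))
    {Ω : Type u} [Field Ω] [IsSepClosed Ω] (ξ : Spec (CommRingCat.of Ω) ⟶ S') (η : Spec (CommRingCat.of Ω) ⟶ S)
    (hw : ξ ≫ s = η) :
    Function.Bijective (sig s ξ η hw (R g g' s t w q ((EtCoh.pullPushAdj t).unit.app F))) := by
  haveI : IsIso (adjL s (R g g' s t w q ((EtCoh.pullPushAdj t).unit.app F))) := by rw [adjL_R_unit]; exact h
  exact bijective_sig _ _ _ _ _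

section Restrict

variable {S0 T0 S T S₁ T₁ U : Scheme.{u}} (g0 : T0 ⟶ S0) (g : T ⟶ S) (ts : S ⟶ S0) (tt : T ⟶ T0)
  (w : tt ≫ g0 = g ≫ ts) (ι : U ⟶ S0)

/-- The map of restricted stages. -/
def resMap : pullback (pullback.snd ι g0) tt ⟶ pullback ι ts :=
  pullback.lift (pullback.fst (pullback.snd ι g0) tt ≫ pullback.fst ι g0) (pullback.snd (pullback.snd ι g0) tt ≫ g) (by
    rw [Category.assoc, Category.assoc, ← w, pullback.condition, ← Category.assoc, pullback.condition, Category.assoc])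

theorem resMap_fst : resMap g0 g ts tt w ι ≫ pullback.fst ι ts = pullback.fst (pullback.snd ι g0) tt ≫ pullback.fst ι g0 :=
  pullback.lift_fst _ _ _

theorem resMap_snd : resMap g0 g ts tt w ι ≫ pullback.snd ι ts = pullback.snd (pullback.snd ι g0) tt ≫ g :=
  pullback.lift_snd _ _ _

theorem resMap_isPullback :
    IsPullback (pullback.snd (pullback.snd ι g0) tt) (resMap g0 g ts tt w ι) g (pullback.snd ι ts) := by
  refine (IsPullback.of_right ?_ (resMap_snd g0 g ts tt w ι) (IsPullback.of_hasPullback ι ts)).flip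
  rw [resMap_fst, ← w]
  exact (IsPullback.of_hasPullback _ tt).paste_horiz (IsPullback.of_hasPullback ι g0)

variable (g₁ : T₁ ⟶ S₁) (ts₁ : S₁ ⟶ S0) (tt₁ : T₁ ⟶ T0) (w₁ : tt₁ ≫ g0 = g₁ ≫ ts₁) (a : S ⟶ S₁) (b : T ⟶ T₁)
  (hab : b ≫ g₁ = g ≫ a)
  (mS : pullback ι ts ⟶ pullback ι ts₁) (hS1 : mS ≫ pullback.fst ι ts₁ = pullback.fst ι ts)
  (hS2 : mS ≫ pullback.snd ι ts₁ = pullback.snd ι ts ≫ a)
  (mT : pullback (pullback.snd ι g0) tt ⟶ pullback (pullback.snd ι g0) tt₁)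
  (hT1 : mT ≫ pullback.fst (pullback.snd ι g0) tt₁ = pullback.fst (pullback.snd ι g0) tt)
  (hT2 : mT ≫ pullback.snd (pullback.snd ι g0) tt₁ = pullback.snd (pullback.snd ι g0) tt ≫ b)

include hab hS1 hS2 hT1 hT2 in
theorem resMap_nat : mT ≫ resMap g0 g₁ ts₁ tt₁ w₁ ι = resMap g0 g ts tt w ι ≫ mS := by
  apply pullback.hom_ext
  · rw [Category.assoc, Category.assoc, resMap_fst, hS1, resMap_fst, ← Category.assoc, hT1]
  · rw [Category.assoc, Category.assoc, resMap_snd, hS2, ← Category.assoc, hT2, Category.assoc, hab,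
      ← Category.assoc, ← Category.assoc, resMap_snd]

end Restrict

section Loc

variable {I : Type u} [SmallCategory I] [IsCofiltered I] {Ts Ss : I ⥤ Scheme.{u}} (gN : Ts ⟶ Ss)
  {cT : Cone Ts} {cS : Cone Ss} (g : cT.pt ⟶ cS.pt) (hg : ∀ i, cT.π.app i ≫ gN.app i = g ≫ cS.π.app i)
  (hcT : IsLimit cT) (hcS : IsLimit cS)
  [∀ (i j : I) (f : i ⟶ j), IsAffineHom (Ts.map f)] [∀ (i j : I) (f : i ⟶ j), IsAffineHom (Ss.map f)]
  [∀ i, QuasiCompact (gN.app i)] [∀ i, QuasiSeparated (gN.app i)]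
  (Rs : PreSys Ts) (G : EtCoh.Ab cT.pt) (ψ : ∀ i, Rs.F i ⟶ (EtCoh.push (cT.π.app i)).obj G)
  (hψ : ∀ {k j : I} (a : k ⟶ j), Rs.τ a ≫ (EtCoh.push (Ts.map a)).map (ψ k) =
    ψ j ≫ (etPc (cT.π.app k) (Ts.map a) (cT.π.app j) (cT.w a)).app G)

omit [∀ i, QuasiCompact (gN.app i)] [∀ i, QuasiSeparated (gN.app i)] in
include hg hcS in
theorem comp_limit_map (i : I) : ∃ (_ : IsAffineHom (cS.π.app i)), g ≫ cS.π.app i = cT.π.app i ≫ gN.app i :=
  ⟨isAffineHom_π_app Ss cS hcS i, (hg i).symm⟩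

include hg hcT hcS in
theorem quasiCompact_limit : QuasiCompact g ∧ QuasiSeparated g := by
  obtain ⟨i⟩ := IsCofiltered.nonempty (C := I)
  obtain ⟨hA, e⟩ := comp_limit_map gN g hg hcS i
  haveI := isAffineHom_π_app Ts cT hcT i
  haveI : QuasiCompact (g ≫ cS.π.app i) := by rw [e]; infer_instance
  haveI : QuasiSeparated (g ≫ cS.π.app i) := by rw [e]; infer_instance
  exact ⟨QuasiCompact.of_comp g (cS.π.app i), QuasiSeparated.of_comp g (cS.π.app i)⟩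

/-- Restriction of a system to the stages below a given one. -/
def overSys (i₀ : I) : PreSys (Over.forget i₀ ⋙ Ts) where
  F φ := Rs.F φ.left
  τ a := Rs.τ a.left
  comp e a b hb := Rs.comp e.left a.left b.left (congrArg Over.Hom.left hb)

include hψ in
theorem stkLim_over (i₀ : I) (H : StkLim G (fun {k j} a => Rs.τ a) ψ) :
    StkLim (c := cT.whisker (Over.forget i₀)) G (fun {k j} a => (overSys Rs i₀).τ a) (fun φ => ψ φ.left) := by
  intro Ω _ _ ξ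
  refine ⟨fun z => ?_, fun φ y hy => ?_⟩
  · obtain ⟨i, x, rfl⟩ := (H Ω ξ).1 z
    obtain ⟨k, a, b, -⟩ := IsCofilteredOrEmpty.cone_objs i i₀
    refine ⟨Over.mk b, sig (Ts.map a) (ξ ≫ cT.π.app k) (ξ ≫ cT.π.app i) (by rw [Category.assoc, cT.w]) (Rs.τ a) x, ?_⟩
    exact sig_comp _ _ _ (cT.w a) ξ _ _ rfl _ rfl _ _ _ (hψ a) x
  · obtain ⟨k, a, ha⟩ := (H Ω ξ).2 φ.left y hy
    exact ⟨Over.mk (a ≫ φ.hom), Over.homMk a rfl, ha⟩

include hψ in
theorem genVan_of_over (i₀ : I) (q : ℕ) {Ω : Type u} [Field Ω] [IsSepClosed Ω]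
    (η : Spec (CommRingCat.of Ω) ⟶ cS.pt)
    (H : GenVan (Functor.whiskerLeft (Over.forget i₀) gN) (cT := cT.whisker (Over.forget i₀))
      (cS := cS.whisker (Over.forget i₀)) g (fun φ => hg φ.left) (overSys Rs i₀) G (fun φ => ψ φ.left) q η) :
    GenVan gN g hg Rs G ψ q η := by
  refine ⟨fun z => ?_, fun i y hy => ?_⟩
  · obtain ⟨φ, x, hx⟩ := H.1 z
    exact ⟨φ.left, x, hx⟩
  · obtain ⟨k, a, b, -⟩ := IsCofilteredOrEmpty.cone_objs i i₀
    obtain ⟨φ', a', ha'⟩ := H.2 (Over.mk b) (sig (Ss.map a) (η ≫ cS.π.app k) (η ≫ cS.π.app i)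
      (by rw [Category.assoc, cS.w]) (R (gN.app i) (gN.app k) (Ss.map a) (Ts.map a) (wa gN a) q (Rs.τ a)) y)
      ((sig_lim_tr gN g hg Rs G ψ q hψ η a y).trans hy)
    refine ⟨φ'.left, a'.left ≫ a, ?_⟩
    refine Eq.trans ?_ ha'
    exact (sig_comp _ _ _ (Ss.map_comp a'.left a).symm (η ≫ cS.π.app φ'.left) (η ≫ cS.π.app k) (η ≫ cS.π.app i)
      (by show (η ≫ cS.π.app φ'.left) ≫ _ = η ≫ cS.π.app k; rw [Category.assoc]; exact congrArg (η ≫ ·) (cS.w a'.left))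
      (by rw [Category.assoc, cS.w]) (by rw [Category.assoc, cS.w]) _ _ _
      (R_comp (gN.app i) (gN.app k) (Ss.map a) (Ts.map a) (wa gN a) (gN.app φ'.left) (Ss.map a'.left) (Ts.map a'.left)
        (wa gN a'.left) (Ss.map (a'.left ≫ a)) (Ts.map (a'.left ≫ a)) (wa gN (a'.left ≫ a))
        (Ss.map_comp a'.left a).symm (Ts.map_comp a'.left a).symm q (Rs.τ a) (Rs.τ a'.left) (Rs.τ (a'.left ≫ a))
        (Rs.comp a'.left a (a'.left ≫ a) rfl)) y).symm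

include hg hcT hcS hψ in
/-- Higher direct images commute with limits along affine maps. -/
theorem genVan_Rpush (q : ℕ) (H : StkLim G (fun {k j} a => Rs.τ a) ψ)
    {Ω : Type u} [Field Ω] [IsSepClosed Ω] (η : Spec (CommRingCat.of Ω) ⟶ cS.pt) :
    GenVan gN g hg Rs G ψ q η := by
  obtain ⟨i₀⟩ := IsCofiltered.nonempty (C := I)
  refine genVan_of_over gN g hg Rs G ψ hψ i₀ q η ?_
  obtain ⟨O, hO, hηO, -⟩ := exists_isAffineOpen_mem_and_subset (X := Ss.obj i₀) (x := (η ≫ cS.π.app i₀).base default)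
    (U := ⊤) trivial
  haveI : IsAffine (O : Scheme.{u}) := hO
  let vO : pullback O.ι (gN.app i₀) ⟶ Ts.obj i₀ := pullback.snd O.ι (gN.app i₀)
  let AS := RichLib.LimBC.pb (RichLib.LimBC.ofStage Ss cS hcS i₀) O.ι
  let AT := RichLib.LimBC.pb (RichLib.LimBC.ofStage Ts cT hcT i₀) vO
  let fN' : AS.D ⟶ Over.forget i₀ ⋙ Ss := RichLib.LimBC.pbSnd _ O.ι
  let eN' : AT.D ⟶ Over.forget i₀ ⋙ Ts := RichLib.LimBC.pbSnd _ vO
  have nat : ∀ φ : Over i₀, Ts.map φ.hom ≫ gN.app i₀ = gN.app φ.left ≫ Ss.map φ.hom := fun φ => gN.naturality φ.hom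
  let happ : ∀ φ : Over i₀, AT.D.obj φ ⟶ AS.D.obj φ := fun φ =>
    resMap (gN.app i₀) (gN.app φ.left) (Ss.map φ.hom) (Ts.map φ.hom) (nat φ) O.ι
  let hN' : AT.D ⟶ AS.D :=
    { app := happ
      naturality := fun φ χ a =>
        resMap_nat (gN.app i₀) (gN.app φ.left) (Ss.map φ.hom) (Ts.map φ.hom) (nat φ) O.ι (gN.app χ.left)
          (Ss.map χ.hom) (Ts.map χ.hom) (nat χ) (Ss.map a.left) (Ts.map a.left) (gN.naturality a.left)
          (RichLib.LimBC.pbMap (RichLib.LimBC.ofStage Ss cS hcS i₀) O.ι a) (RichLib.LimBC.pbMap_fst _ O.ι a)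
          (RichLib.LimBC.pbMap_snd _ O.ι a)
          (RichLib.LimBC.pbMap (RichLib.LimBC.ofStage Ts cT hcT i₀) vO a) (RichLib.LimBC.pbMap_fst _ vO a)
          (RichLib.LimBC.pbMap_snd _ vO a) }
  have sqc : ∀ φ, IsPullback (eN'.app φ) (hN'.app φ) (gN.app φ.left) (fN'.app φ) := fun φ =>
    resMap_isPullback (gN.app i₀) (gN.app φ.left) (Ss.map φ.hom) (Ts.map φ.hom) (nat φ) O.ι
  let h' : AT.c.pt ⟶ AS.c.pt := resMap (gN.app i₀) g (cS.π.app i₀) (cT.π.app i₀) (hg i₀) O.ι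
  let f' : AS.c.pt ⟶ (cS.whisker (Over.forget i₀)).pt := pullback.snd O.ι (cS.π.app i₀)
  let e' : AT.c.pt ⟶ (cT.whisker (Over.forget i₀)).pt := pullback.snd vO (cT.π.app i₀)
  have cl : IsPullback e' h' g f' := resMap_isPullback (gN.app i₀) g (cS.π.app i₀) (cT.π.app i₀) (hg i₀) O.ι
  have hf' : ∀ φ, AS.c.π.app φ ≫ fN'.app φ = f' ≫ (cS.whisker (Over.forget i₀)).π.app φ := fun φ =>
    RichLib.LimBC.pbπ_snd _ O.ι φ
  have he' : ∀ φ, AT.c.π.app φ ≫ eN'.app φ = e' ≫ (cT.whisker (Over.forget i₀)).π.app φ := fun φ =>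
    RichLib.LimBC.pbπ_snd _ vO φ
  have hh' : ∀ φ, AT.c.π.app φ ≫ hN'.app φ = h' ≫ AS.c.π.app φ := fun φ =>
    resMap_nat (gN.app i₀) g (cS.π.app i₀) (cT.π.app i₀) (hg i₀) O.ι (gN.app φ.left) (Ss.map φ.hom) (Ts.map φ.hom)
      (nat φ) (cS.π.app φ.left) (cT.π.app φ.left) (hg φ.left)
      (RichLib.LimBC.pbπ (RichLib.LimBC.ofStage Ss cS hcS i₀) O.ι φ) (RichLib.LimBC.pbπ_fst _ O.ι φ)
      (RichLib.LimBC.pbπ_snd _ O.ι φ)
      (RichLib.LimBC.pbπ (RichLib.LimBC.ofStage Ts cT hcT i₀) vO φ) (RichLib.LimBC.pbπ_fst _ vO φ)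
      (RichLib.LimBC.pbπ_snd _ vO φ)
  -- the instances of the restricted systems
  obtain ⟨hgc, hgs⟩ := quasiCompact_limit gN g hg hcT hcS
  haveI := hgc; haveI := hgs
  haveI : ∀ φ, QuasiCompact (hN'.app φ) := fun φ => MorphismProperty.of_isPullback (sqc φ) (inferInstance : QuasiCompact (gN.app φ.left))
  haveI : ∀ φ, QuasiSeparated (hN'.app φ) := fun φ => MorphismProperty.of_isPullback (sqc φ) (inferInstance : QuasiSeparated (gN.app φ.left))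
  haveI : QuasiCompact h' := MorphismProperty.of_isPullback cl hgc
  haveI : QuasiSeparated h' := MorphismProperty.of_isPullback cl hgs
  haveI : ∀ (φ χ : Over i₀) (a : φ ⟶ χ), IsAffineHom (AS.D.map a) := fun φ χ a => AS.affine_map a
  haveI : ∀ (φ χ : Over i₀) (a : φ ⟶ χ), IsAffineHom (AT.D.map a) := fun φ χ a => AT.affine_map a
  haveI : CompactSpace (pullback O.ι (gN.app i₀) : Scheme.{u}) :=
    QuasiCompact.compactSpace_of_compactSpace (pullback.fst O.ι (gN.app i₀))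
  haveI : QuasiSeparatedSpace (pullback O.ι (gN.app i₀) : Scheme.{u}) :=
    quasiSeparatedSpace_of_quasiSeparated (pullback.fst O.ι (gN.app i₀))
  haveI : ∀ φ, CompactSpace (AS.D.obj φ) := AS.compactSpace_obj
  haveI : ∀ φ, QuasiSeparatedSpace (AS.D.obj φ) := AS.quasiSeparatedSpace_obj
  haveI : ∀ φ, CompactSpace (AT.D.obj φ) := AT.compactSpace_obj
  haveI : ∀ φ, QuasiSeparatedSpace (AT.D.obj φ) := AT.quasiSeparatedSpace_obj
  let Rs₀ := overSys Rs i₀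
  have H₀ := stkLim_over Rs G ψ hψ i₀ H
  have H' := stkLim_pull eN' e' he' Rs₀ G (fun φ => ψ φ.left) H₀
  have HR := stkLim_Rpush hN' (cT := AT.c) (cS := AS.c) h' hh' AT.hc AS.hc (pullSys eN' Rs₀) _ (ψp eN' e' he' Rs₀ G (fun φ => ψ φ.left))
    (fun {k j} a => ψp_compat eN' e' he' Rs₀ G (fun φ => ψ φ.left) (fun {k j} a => hψ a.left) a) q H'
  -- the lift of the point
  have hrange : Set.range (η ≫ cS.π.app i₀).base ⊆ Set.range O.ι.base := by
    rintro _ ⟨a, rfl⟩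
    rw [Scheme.Opens.range_ι, Subsingleton.elim a default]
    exact hηO
  let ξ : Spec (CommRingCat.of Ω) ⟶ AS.c.pt :=
    pullback.lift (IsOpenImmersion.lift O.ι (η ≫ cS.π.app i₀) hrange) η (IsOpenImmersion.lift_fac _ _ _)
  have hξ : ξ ≫ f' = η := pullback.lift_snd _ _ _
  haveI : AlgebraicGeometry.Etale f' := MorphismProperty.pullback_snd (P := @AlgebraicGeometry.Etale) O.ι (cS.π.app i₀) inferInstance
  have hA : Function.Bijective (Abc f' g h' e' cl.w G q ξ) := by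
    exact bijective_sig_bcQ g h' f' e' cl.w q G (EtBcQLib.isIso_bcQ_etale g f' h' e' cl q G) ξ (ξ ≫ f') rfl
  have hst : StageBij fN' (Functor.whiskerLeft (Over.forget i₀) gN) hN' eN' (fun φ => (sqc φ).w) Rs₀ q :=
    stageBij_of_isIso _ _ _ _ _ _ _ fun φ => by
      haveI : AlgebraicGeometry.Etale (fN'.app φ) :=
        MorphismProperty.pullback_snd (P := @AlgebraicGeometry.Etale) O.ι (Ss.map φ.hom) inferInstance
      exact EtBcQLib.isIso_bcQ_etale (gN.app φ.left) (fN'.app φ) (hN'.app φ) (eN'.app φ) (sqc φ) q (Rs.F φ.left)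
  have := genVan_of_pull fN' (Functor.whiskerLeft (Over.forget i₀) gN) hN' eN' (fun φ => (sqc φ).w)
    (cS := cS.whisker (Over.forget i₀)) (cT := cT.whisker (Over.forget i₀)) f' g h' e' hf' (fun φ => hg φ.left) hh' he'
    cl.w Rs₀ G (fun φ => ψ φ.left) q ξ hst hA (HR Ω ξ)
  rw [hξ] at this
  exact this

end Loc

section Final

variable {I : Type u} [SmallCategory I] [IsCofiltered I] {Xs Ss Ts Ys : I ⥤ Scheme.{u}} (fN : Xs ⟶ Ss) (gN : Ts ⟶ Ss)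
  (hN : Ys ⟶ Xs) (eN : Ys ⟶ Ts) (sq : ∀ i, IsPullback (eN.app i) (hN.app i) (gN.app i) (fN.app i))
  [∀ i, QuasiCompact (gN.app i)] [∀ i, QuasiSeparated (gN.app i)]
  [∀ (i j : I) (f : i ⟶ j), IsAffineHom (Xs.map f)] [∀ (i j : I) (f : i ⟶ j), IsAffineHom (Ss.map f)]
  [∀ (i j : I) (f : i ⟶ j), IsAffineHom (Ts.map f)] [∀ (i j : I) (f : i ⟶ j), IsAffineHom (Ys.map f)]
  {cX : Cone Xs} (hcX : IsLimit cX) {cS : Cone Ss} (hcS : IsLimit cS) {cT : Cone Ts} (hcT : IsLimit cT)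
  {cY : Cone Ys} (hcY : IsLimit cY)
  (f : cX.pt ⟶ cS.pt) (g : cT.pt ⟶ cS.pt) (h : cY.pt ⟶ cX.pt) (e : cY.pt ⟶ cT.pt)
  (hf : ∀ i, cX.π.app i ≫ fN.app i = f ≫ cS.π.app i) (hg : ∀ i, cT.π.app i ≫ gN.app i = g ≫ cS.π.app i)
  (hh : ∀ i, cY.π.app i ≫ hN.app i = h ≫ cX.π.app i) (he : ∀ i, cY.π.app i ≫ eN.app i = e ≫ cT.π.app i)
  (c : IsPullback e h g f)
  (Rs : PreSys Ts) (G : EtCoh.Ab cT.pt) (ψ : ∀ i, Rs.F i ⟶ (EtCoh.push (cT.π.app i)).obj G)
  (hψ : ∀ {k j : I} (a : k ⟶ j), Rs.τ a ≫ (EtCoh.push (Ts.map a)).map (ψ k) =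
    ψ j ≫ (etPc (cT.π.app k) (Ts.map a) (cT.π.app j) (cT.w a)).app G)
  (H : StkLim G (fun {k j} a => Rs.τ a) ψ)

include hcX hcS hcT hcY hf hg hh he sq hψ H in
/-- The base change morphism at the limit. -/
theorem isIso_bcQ_limit (q : ℕ)
    (hstage : ∀ i, IsIso (EtBC.bcQ (gN.app i) (fN.app i) (hN.app i) (eN.app i) (sq i).w q (Rs.F i))) :
    IsIso (EtBC.bcQ g f h e c.w q G) := by
  haveI : ∀ i, QuasiCompact (hN.app i) := fun i => MorphismProperty.of_isPullback (sq i) (inferInstance : QuasiCompact (gN.app i))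
  haveI : ∀ i, QuasiSeparated (hN.app i) := fun i => MorphismProperty.of_isPullback (sq i) (inferInstance : QuasiSeparated (gN.app i))
  refine isIso_of_stalks _ fun Ω _ _ ξ => ?_
  have hb := bijective_Abc fN gN hN eN (fun i => (sq i).w) f g h e hf hg hh he c.w Rs G ψ q hψ ξ
    (stageBij_of_isIso _ _ _ _ _ _ _ hstage) (genVan_Rpush gN g hg hcT hcS Rs G ψ hψ q H (ξ ≫ f))
    (genVan_Rpush hN h hh hcY hcX (pullSys eN Rs) _ (ψp eN e he Rs G ψ)
      (fun {k j} a => ψp_compat eN e he Rs G ψ hψ a) q (stkLim_pull eN e he Rs G ψ H) ξ)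
  have := isIso_of_bijective_sig f ξ (ξ ≫ f) rfl _ hb
  rw [adjL_R_unit] at this
  exact this

end Final

end EtBcLimLib
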